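import Cfsg.Agent.Lib.UnipSeven.Model

/-!
Representatives of the classes of elements of order three of the seven-dimensional group over the field with three
elements.
-/

set_option autoImplicit false

namespace Cfsg.Agent.UnipSeven

open scoped Matrix

/-- The inverse of `GB c`. -/
def GB' (c : K3) : Matrix (Fin 3) (Fin 3) K3 :=
  !![0, 0, c; 0, -c, -c; c, -c, -c]

def MA : Matrix I7 I7 K3 := fun p q => (![![1, 0, 0, 0, 0, 0, 0], ![0, 1, 0, 0, 0, 0, 0], ![0, 0, 1, 0, 0, 0, 0], ![0, 0, 0, 1, 0, 0, 0], ![0, 0, 1, 0, 1, 0, 0], ![0, 2, 0, 0, 0, 1, 0], ![0, 0, 0, 0, 0, 0, 1]] : Fin 7 → Fin 7 → K3) (idx p) (idx q)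

def EA : Matrix I7 (Fin 4) K3 := fun p => (![![0, 0, 0, 0], ![1, 0, 0, 0], ![0, 1, 0, 0], ![0, 0, 0, 0], ![0, 0, 0, 1], ![0, 0, 2, 0], ![0, 0, 0, 0]] : Fin 7 → Fin 4 → K3) (idx p)

def MB1 : Matrix I7 I7 K3 := fun p q => (![![1, 0, 0, 1, 0, 0, 0], ![0, 1, 0, 0, 0, 0, 0], ![0, 0, 1, 0, 0, 0, 0], ![0, 0, 0, 1, 0, 0, 0], ![0, 0, 0, 0, 1, 0, 0], ![0, 0, 0, 0, 0, 1, 0], ![1, 0, 0, 2, 0, 0, 1]] : Fin 7 → Fin 7 → K3) (idx p) (idx q)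

def EB1 : Matrix I7 (Fin 3) K3 := fun p => (![![0, 1, 0], ![0, 0, 0], ![0, 0, 0], ![1, 0, 0], ![0, 0, 0], ![0, 0, 0], ![0, 2, 1]] : Fin 7 → Fin 3 → K3) (idx p)

def MB2 : Matrix I7 I7 K3 := fun p q => (![![1, 0, 0, 0, 0, 0, 0], ![0, 1, 0, 1, 0, 0, 0], ![0, 0, 1, 0, 0, 0, 0], ![0, 0, 0, 1, 0, 0, 0], ![0, 0, 0, 2, 1, 0, 0], ![0, 0, 0, 0, 0, 1, 0], ![0, 1, 0, 1, 2, 0, 1]] : Fin 7 → Fin 7 → K3) (idx p) (idx q)

def EB2 : Matrix I7 (Fin 3) K3 := fun p => (![![0, 0, 0], ![0, 1, 0], ![0, 0, 0], ![1, 0, 0], ![0, 2, 0], ![0, 0, 0], ![0, 1, 2]] : Fin 7 → Fin 3 → K3) (idx p)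

def MC : Matrix I7 I7 K3 := fun p q => (![![1, 0, 0, 1, 0, 0, 0], ![0, 1, 0, 0, 0, 0, 0], ![0, 0, 1, 0, 0, 0, 0], ![0, 0, 0, 1, 0, 0, 0], ![0, 0, 1, 0, 1, 0, 0], ![0, 2, 0, 0, 0, 1, 0], ![1, 0, 0, 2, 0, 0, 1]] : Fin 7 → Fin 7 → K3) (idx p) (idx q)

def EC : Matrix I7 (Fin 7) K3 := fun p => (![![0, 1, 0, 0, 0, 0, 0], ![0, 0, 0, 1, 0, 0, 0], ![0, 0, 0, 0, 1, 0, 0], ![1, 0, 0, 0, 0, 0, 0], ![0, 0, 0, 0, 0, 0, 1], ![0, 0, 0, 0, 0, 2, 0], ![0, 2, 1, 0, 0, 0, 0]] : Fin 7 → Fin 7 → K3) (idx p)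

def MD1 : Matrix I7 I7 K3 := fun p q => (![![1, 0, 0, 1, 0, 0, 0], ![0, 1, 1, 0, 0, 0, 0], ![0, 0, 1, 0, 0, 0, 0], ![0, 0, 0, 1, 0, 0, 0], ![0, 0, 1, 0, 1, 0, 0], ![0, 2, 2, 0, 2, 1, 0], ![1, 0, 0, 2, 0, 0, 1]] : Fin 7 → Fin 7 → K3) (idx p) (idx q)

def ED1 : Matrix I7 (Fin 6) K3 := fun p => (![![0, 1, 0, 0, 0, 0], ![0, 0, 0, 0, 1, 0], ![0, 0, 0, 1, 0, 0], ![1, 0, 0, 0, 0, 0], ![0, 0, 0, 0, 1, 0], ![0, 0, 0, 0, 2, 1], ![0, 2, 1, 0, 0, 0]] : Fin 7 → Fin 6 → K3) (idx p)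

def MD2 : Matrix I7 I7 K3 := fun p q => (![![1, 0, 0, 1, 0, 0, 0], ![0, 1, 1, 0, 0, 0, 0], ![0, 0, 1, 0, 0, 0, 0], ![0, 0, 0, 1, 0, 0, 0], ![0, 0, 2, 0, 1, 0, 0], ![0, 1, 1, 0, 2, 1, 0], ![1, 0, 0, 2, 0, 0, 1]] : Fin 7 → Fin 7 → K3) (idx p) (idx q)

def ED2 : Matrix I7 (Fin 6) K3 := fun p => (![![0, 1, 0, 0, 0, 0], ![0, 0, 0, 0, 1, 0], ![0, 0, 0, 1, 0, 0], ![1, 0, 0, 0, 0, 0], ![0, 0, 0, 0, 2, 0], ![0, 0, 0, 0, 1, 2], ![0, 2, 1, 0, 0, 0]] : Fin 7 → Fin 6 → K3) (idx p)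

theorem isoA : MAᵀ * B7 * MA = B7 := by decide +kernel

theorem cubeA : MA * (MA * MA) = 1 := by decide +kernel

/-- Representative `A`. -/
noncomputable def gA : O7 := mk3 MA isoA cubeA

theorem shapeA : MA = repMat EA SA GA := by decide +kernel

theorem frameA : Frame gA GA SA fun i p => EA p i :=
  frame_mk3 shapeA isoA cubeA (by decide +kernel) (by decide +kernel)

theorem gA_cube : gA ^ 3 = 1 := mk3_cube _ _ _

theorem isoB1 : MB1ᵀ * B7 * MB1 = B7 := by decide +kernel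

theorem cubeB1 : MB1 * (MB1 * MB1) = 1 := by decide +kernel

/-- Representative `B1`. -/
noncomputable def gB1 : O7 := mk3 MB1 isoB1 cubeB1

theorem shapeB1 : MB1 = repMat EB1 SB (GB' 1) := by decide +kernel

theorem frameB1 : Frame gB1 (GB 1) SB fun i p => EB1 p i :=
  frame_mk3 shapeB1 isoB1 cubeB1 (by decide +kernel) (by decide +kernel)

theorem gB1_cube : gB1 ^ 3 = 1 := mk3_cube _ _ _

theorem isoB2 : MB2ᵀ * B7 * MB2 = B7 := by decide +kernel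

theorem cubeB2 : MB2 * (MB2 * MB2) = 1 := by decide +kernel

/-- Representative `B2`. -/
noncomputable def gB2 : O7 := mk3 MB2 isoB2 cubeB2

theorem shapeB2 : MB2 = repMat EB2 SB (GB' 2) := by decide +kernel

theorem frameB2 : Frame gB2 (GB 2) SB fun i p => EB2 p i :=
  frame_mk3 shapeB2 isoB2 cubeB2 (by decide +kernel) (by decide +kernel)

theorem gB2_cube : gB2 ^ 3 = 1 := mk3_cube _ _ _

theorem isoC : MCᵀ * B7 * MC = B7 := by decide +kernel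

theorem cubeC : MC * (MC * MC) = 1 := by decide +kernel

/-- Representative `C`. -/
noncomputable def gC : O7 := mk3 MC isoC cubeC

theorem shapeC : MC = repMat EC SC (GC' 1) := by decide +kernel

theorem frameC : Frame gC (GC 1) SC fun i p => EC p i :=
  frame_mk3 shapeC isoC cubeC (by decide +kernel) (by decide +kernel)

theorem gC_cube : gC ^ 3 = 1 := mk3_cube _ _ _

theorem isoD1 : MD1ᵀ * B7 * MD1 = B7 := by decide +kernel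

theorem cubeD1 : MD1 * (MD1 * MD1) = 1 := by decide +kernel

/-- Representative `D1`. -/
noncomputable def gD1 : O7 := mk3 MD1 isoD1 cubeD1

theorem shapeD1 : MD1 = repMat ED1 SD (GD' 1 1) := by decide +kernel

theorem frameD1 : Frame gD1 (GD 1 1) SD fun i p => ED1 p i :=
  frame_mk3 shapeD1 isoD1 cubeD1 (by decide +kernel) (by decide +kernel)

theorem gD1_cube : gD1 ^ 3 = 1 := mk3_cube _ _ _

theorem isoD2 : MD2ᵀ * B7 * MD2 = B7 := by decide +kernel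

theorem cubeD2 : MD2 * (MD2 * MD2) = 1 := by decide +kernel

/-- Representative `D2`. -/
noncomputable def gD2 : O7 := mk3 MD2 isoD2 cubeD2

theorem shapeD2 : MD2 = repMat ED2 SD (GD' 1 2) := by decide +kernel

theorem frameD2 : Frame gD2 (GD 1 2) SD fun i p => ED2 p i :=
  frame_mk3 shapeD2 isoD2 cubeD2 (by decide +kernel) (by decide +kernel)

theorem gD2_cube : gD2 ^ 3 = 1 := mk3_cube _ _ _

end Cfsg.Agent.UnipSeven
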