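import Cfsg.Agent.Lib.UnipSeven.Centralizer
import Cfsg.Agent.Lib.Forms.OmegaOrder

/-!
The seven classes of elements of order three of the seven-dimensional group over the field with three elements.
-/

set_option autoImplicit false
set_option linter.unusedSectionVars false
set_option maxHeartbeats 400000

namespace Cfsg.Agent.UnipSeven

open scoped Matrix
open QForm (act)

/-- The seven representatives. -/
noncomputable def rep : Fin 7 → O7 := ![gA, gB1, gB2, gD1, gD2, gC, flip7 * gC * flip7⁻¹]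

theorem conj_cube {G : Type*} [Group G] (k : G) {g : G} (h : g ^ 3 = 1) : (k * g * k⁻¹) ^ 3 = 1 := by
  rw [conj_pow, h, mul_one, mul_inv_cancel]

theorem rep_cube (i : Fin 7) : rep i ^ 3 = 1 := by
  fin_cases i
  · exact gA_cube
  · exact gB1_cube
  · exact gB2_cube
  · exact gD1_cube
  · exact gD2_cube
  · exact gC_cube
  · exact conj_cube _ gC_cube

/-- A change of basis in a frame. -/
theorem Frame.change {ι : Type} [Fintype ι] [DecidableEq ι] {Q : QuadraticForm K3 (ι → K3)}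
    {κ : Type} [Fintype κ] [DecidableEq κ] {g : ↥(isometryGroup K3 ⇑Q)} {G S : Matrix κ κ K3} {e : κ → ι → K3}
    (h : Frame g G S e) (T T' G' : Matrix κ κ K3) (hT : T * T' = 1) (hG : Tᵀ * G * T = G') (hS : S * T = T * S) :
    Frame g G' S fun j => comb e (T.col j) := by
  refine ⟨fun i j => ?_, fun j => ?_, fun x hx => h.rest x fun i => ?_⟩
  · rw [pol_comb h.gram, ← hG, Matrix.mul_assoc, Matrix.mul_apply']
    rfl
  · have hn := nil_comb h.move (T.col j)
    rw [nil, sub_eq_iff_eq_add] at hn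
    rw [hn, Matrix.sub_mulVec, Matrix.one_mulVec, comb, comb]
    rw [← Finset.sum_add_distrib]
    simp only [Pi.sub_apply, ← add_smul, sub_add_cancel]
    simp only [comb, Finset.smul_sum, smul_smul]
    rw [Finset.sum_comm]
    refine Finset.sum_congr rfl fun i _ => ?_
    rw [← Finset.sum_smul]
    congr 1
    calc (S *ᵥ T.col j) i = (S * T) i j := rfl
      _ = _ := by rw [hS, Matrix.mul_apply]; exact Finset.sum_congr rfl fun l _ => mul_comm _ _
  · have h0 : (fun i => pol Q (e i) x) ᵥ* T = 0 := funext fun j => by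
      have := hx j
      rw [pol_comm, comb, pol_sum_smul_right] at this
      refine (Finset.sum_congr rfl fun l _ => ?_).trans this
      rw [pol_comm]
      exact mul_comm _ _
    have h1 := congrArg (· ᵥ* T') h0
    simp only [Matrix.vecMul_vecMul, hT, Matrix.vecMul_one, Matrix.zero_vecMul] at h1
    exact congrFun h1 i

/-- Exchanges the two blocks. -/
def swapT : Matrix (Fin 6) (Fin 6) K3 :=
  !![0, 0, 0, 1, 0, 0; 0, 0, 0, 0, 1, 0; 0, 0, 0, 0, 0, 1; 1, 0, 0, 0, 0, 0; 0, 1, 0, 0, 0, 0; 0, 0, 1, 0, 0, 0]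

/-- Sum and difference of the two blocks. -/
def mixT : Matrix (Fin 6) (Fin 6) K3 :=
  !![1, 0, 0, 1, 0, 0; 0, 1, 0, 0, 1, 0; 0, 0, 1, 0, 0, 1; 1, 0, 0, -1, 0, 0; 0, 1, 0, 0, -1, 0; 0, 0, 1, 0, 0, -1]

theorem swapT_facts : swapT * swapT = 1 ∧ swapTᵀ * GD 2 1 * swapT = GD 1 2 ∧ SD * swapT = swapT * SD := by
  decide +kernel

theorem mixT_facts : mixT * (-mixT) = 1 ∧ mixTᵀ * GD 2 2 * mixT = GD 1 1 ∧ SD * mixT = mixT * SD := by
  decide +kernel

/-- The block of three has a determined parameter. -/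
theorem frameC_param {g : O7} {c : K3} (hc : c ≠ 0) {e : Fin 7 → I7 → K3} (h : Frame g (GC c) SC e) : c = 1 := by
  rcases (by decide : ∀ t : K3, t = 0 ∨ t = 1 ∨ t = 2) c with rfl | rfl | rfl
  · exact absurd rfl hc
  · rfl
  exfalso
  let E : Matrix I7 (Fin 7) K3 := fun p i => e i p
  have h1 : Eᵀ * B7 * E = GC 2 := by
    ext i j
    rw [← h.gram, pol_eq, Matrix.mul_assoc, Matrix.mul_apply']
    rfl
  have h2 : GC 2 = (PC * E)ᵀ * GC 1 * (PC * E) := by
    rw [← h1, ← PC_form]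
    simp only [Matrix.transpose_mul, Matrix.mul_assoc]
  have h3 : GC 2 = Matrix.diagonal ![2, 2, 2, 1, 1, 1, 1] * GC 1 := by decide +kernel
  have h4 := congrArg Matrix.det (h3.symm.trans h2)
  rw [Matrix.det_mul, Matrix.det_mul, Matrix.det_mul, Matrix.det_transpose, Matrix.det_diagonal] at h4
  have h5 := det_GC 1 one_ne_zero
  revert h4 h5
  generalize (PC * E).det = r
  generalize (GC 1).det = d
  simp only [Fin.prod_univ_seven]
  revert r d
  decide +kernel

theorem sgn_eq (k : O7) : sgn7 k = 1 ∨ sgn7 k = -1 := Int.units_eq_one_or _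

/-- Conjugation with positive sign. -/
theorem fix_sign {g r : O7} (hr : ∃ z : O7, Commute z r ∧ sgn7 z = -1) {k : O7} (hk : k * g * k⁻¹ = r) :
    ∃ k : O7, sgn7 k = 1 ∧ k * g * k⁻¹ = r := by
  rcases sgn_eq k with h | h
  · exact ⟨k, h, hk⟩
  obtain ⟨z, hz, hz1⟩ := hr
  refine ⟨z * k, by rw [map_mul, hz1, h]; rfl, ?_⟩
  calc z * k * g * (z * k)⁻¹ = z * (k * g * k⁻¹) * z⁻¹ := by group
    _ = r := by rw [hk, hz.eq, mul_inv_cancel_right]

theorem exhaust {g : O7} (hg : g ^ 3 = 1) (hne : g ≠ 1) :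
    ∃ i : Fin 7, ∃ k : O7, sgn7 k = 1 ∧ k * g * k⁻¹ = rep i := by
  rcases exists_frame hg nondeg card_I7 hne with ⟨e, h⟩ | ⟨c, hc, e, h⟩ | ⟨c, hc, e, h⟩ | ⟨c, d, hc, hd, e, h⟩
  · obtain ⟨k, hk, -⟩ := h.conj nondeg det_GA frameA
    exact ⟨0, fix_sign negA hk⟩
  · rcases (by decide : ∀ t : K3, t = 0 ∨ t = 1 ∨ t = 2) c with rfl | rfl | rfl
    · exact absurd rfl hc
    · obtain ⟨k, hk, -⟩ := h.conj nondeg (det_GB 1 hc) frameB1
      exact ⟨1, fix_sign negB1 hk⟩
    · obtain ⟨k, hk, -⟩ := h.conj nondeg (det_GB 2 hc) frameB2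
      exact ⟨2, fix_sign negB2 hk⟩
  · obtain rfl := frameC_param hc h
    obtain ⟨k, hk, -⟩ := h.conj nondeg (det_GC 1 hc) frameC
    rcases sgn_eq k with hs | hs
    · exact ⟨5, k, hs, hk⟩
    · refine ⟨6, flip7 * k, by rw [map_mul, sgn_flip7, hs]; rfl, ?_⟩
      show flip7 * k * g * (flip7 * k)⁻¹ = flip7 * gC * flip7⁻¹
      rw [← hk]
      group
  · have d11 : ∀ e, Frame g (GD 1 1) SD e → ∃ i : Fin 7, ∃ k : O7, sgn7 k = 1 ∧ k * g * k⁻¹ = rep i :=
      fun e h => by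
        obtain ⟨k, hk, -⟩ := h.conj nondeg (det_GD 1 1 one_ne_zero one_ne_zero) frameD1
        exact ⟨3, fix_sign negD1 hk⟩
    have d12 : ∀ e, Frame g (GD 1 2) SD e → ∃ i : Fin 7, ∃ k : O7, sgn7 k = 1 ∧ k * g * k⁻¹ = rep i :=
      fun e h => by
        obtain ⟨k, hk, -⟩ := h.conj nondeg (det_GD 1 2 one_ne_zero (by decide)) frameD2
        exact ⟨4, fix_sign negD2 hk⟩
    rcases (by decide : ∀ t : K3, t = 0 ∨ t = 1 ∨ t = 2) c with rfl | rfl | rfl <;>
      rcases (by decide : ∀ t : K3, t = 0 ∨ t = 1 ∨ t = 2) d with rfl | rfl | rfl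
    · exact absurd rfl hc
    · exact absurd rfl hc
    · exact absurd rfl hc
    · exact absurd rfl hd
    · exact d11 e h
    · exact d12 e h
    · exact absurd rfl hd
    · exact d12 _ (h.change swapT swapT _ swapT_facts.1 swapT_facts.2.1 swapT_facts.2.2)
    · exact d11 _ (h.change mixT (-mixT) _ mixT_facts.1 mixT_facts.2.1 mixT_facts.2.2)

theorem rep_zero : rep 0 = gA := rfl
theorem rep_one : rep 1 = gB1 := rfl
theorem rep_two : rep 2 = gB2 := rfl
theorem rep_three : rep 3 = gD1 := rfl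
theorem rep_four : rep 4 = gD2 := rfl
theorem rep_five : rep 5 = gC := rfl
theorem rep_six : rep 6 = flip7 * gC * flip7⁻¹ := rfl

theorem forall_seven {P : Fin 7 → Prop} (h0 : P 0) (h1 : P 1) (h2 : P 2) (h3 : P 3) (h4 : P 4) (h5 : P 5)
    (h6 : P 6) : ∀ l, P l
  | 0 => h0
  | 1 => h1
  | 2 => h2
  | 3 => h3
  | 4 => h4
  | 5 => h5
  | 6 => h6

set_option synthInstance.maxSize 4000 in
theorem separated_key : ∀ i j : Fin 7,
      (i ∈ ({1, 3, 4, 5, 6} : Finset (Fin 7)) ↔ j ∈ ({1, 3, 4, 5, 6} : Finset (Fin 7))) →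
      (i ∈ ({2, 3, 4} : Finset (Fin 7)) ↔ j ∈ ({2, 3, 4} : Finset (Fin 7))) →
      (i ∈ ({3, 4} : Finset (Fin 7)) → j ∈ ({3, 4} : Finset (Fin 7)) → (i = 4 ↔ j = 4)) →
      (i ∈ ({1, 5, 6} : Finset (Fin 7)) → j ∈ ({1, 5, 6} : Finset (Fin 7)) → (i = 1 ↔ j = 1)) →
      i = j ∨ i = 5 ∧ j = 6 ∨ i = 6 ∧ j = 5 := by
  decide +kernel

theorem separated {i j : Fin 7} (hinv : inv4 (rep i) = inv4 (rep j)) :
    i = j ∨ i = 5 ∧ j = 6 ∨ i = 6 ∧ j = 5 := by
  classical
  simp only [inv4, Prod.mk.injEq] at hinv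
  obtain ⟨q1, q2, q3, q4⟩ := hinv
  obtain ⟨a1, a2⟩ := frameA_inv frameA
  obtain ⟨b1, b2', b3⟩ := frameB_inv one_ne_zero frameB1
  obtain ⟨c1, c2', c3⟩ := frameB_inv (by decide : (2 : K3) ≠ 0) frameB2
  obtain ⟨p1, p2, p3⟩ := frameD_inv one_ne_zero one_ne_zero frameD1
  obtain ⟨r1, r2, r3⟩ := frameD_inv one_ne_zero (by decide : (2 : K3) ≠ 0) frameD2
  obtain ⟨u1, u2', u3⟩ := frameC_inv one_ne_zero frameC
  have b2 := b2' 2 (by decide) (by decide)
  have c2 := c2' 1 one_ne_zero (by decide)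
  have u2 := u2' 2 (by decide) (by decide)
  have p3' : ¬ HasIso gD1 := fun h => p3.1 h rfl
  have r3' : HasIso gD2 := r3.2 (by decide)
  have e6 : inv4 (rep 6) = inv4 gC := inv4_conj flip7
  simp only [inv4, Prod.mk.injEq] at e6
  obtain ⟨w1, w2, w3, w4⟩ := e6
  have t1 : ∀ l : Fin 7, HasValue (rep l) 1 ↔ l ∈ ({1, 3, 4, 5, 6} : Finset (Fin 7)) := by
    refine forall_seven ?_ ?_ ?_ ?_ ?_ ?_ ?_
    · rw [rep_zero]; exact iff_of_false a1 (by decide)
    · rw [rep_one]; exact iff_of_true b1 (by decide)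
    · rw [rep_two]; exact iff_of_false c2 (by decide)
    · rw [rep_three]; exact iff_of_true p1 (by decide)
    · rw [rep_four]; exact iff_of_true r1 (by decide)
    · rw [rep_five]; exact iff_of_true u1 (by decide)
    · rw [w1]; exact iff_of_true u1 (by decide)
  have t2 : ∀ l : Fin 7, HasValue (rep l) 2 ↔ l ∈ ({2, 3, 4} : Finset (Fin 7)) := by
    refine forall_seven ?_ ?_ ?_ ?_ ?_ ?_ ?_
    · rw [rep_zero]; exact iff_of_false a2 (by decide)
    · rw [rep_one]; exact iff_of_false b2 (by decide)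
    · rw [rep_two]; exact iff_of_true c1 (by decide)
    · rw [rep_three]; exact iff_of_true p2 (by decide)
    · rw [rep_four]; exact iff_of_true r2 (by decide)
    · rw [rep_five]; exact iff_of_false u2 (by decide)
    · rw [w2]; exact iff_of_false u2 (by decide)
  have t3 : i ∈ ({3, 4} : Finset (Fin 7)) → j ∈ ({3, 4} : Finset (Fin 7)) → (i = 4 ↔ j = 4) := by
    have t : ∀ l : Fin 7, l ∈ ({3, 4} : Finset (Fin 7)) → (HasIso (rep l) ↔ l = 4) := by
      refine forall_seven ?_ ?_ ?_ ?_ ?_ ?_ ?_ <;> intro hl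
      all_goals first
        | exact absurd hl (by decide)
        | (rw [rep_three]; exact iff_of_false p3' (by decide))
        | (rw [rep_four]; exact iff_of_true r3' rfl)
    intro hi hj
    rw [← t i hi, ← t j hj, q3]
  have t4 : i ∈ ({1, 5, 6} : Finset (Fin 7)) → j ∈ ({1, 5, 6} : Finset (Fin 7)) → (i = 1 ↔ j = 1) := by
    have t : ∀ l : Fin 7, l ∈ ({1, 5, 6} : Finset (Fin 7)) → (HasAlt (rep l) ↔ l ≠ 1) := by
      refine forall_seven ?_ ?_ ?_ ?_ ?_ ?_ ?_ <;> intro hl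
      all_goals first
        | exact absurd hl (by decide)
        | (rw [rep_one]; exact iff_of_false b3 (fun h => h rfl))
        | (rw [rep_five]; exact iff_of_true u3 (by decide))
        | (rw [w4]; exact iff_of_true u3 (by decide))
    intro hi hj
    exact not_iff_not.1 (by rw [← ne_eq, ← ne_eq, ← t i hi, ← t j hj, q4])
  exact separated_key i j (by rw [← t1 i, ← t1 j, q1]) (by rw [← t2 i, ← t2 j, q2]) t3 t4

theorem no_merge (k : O7) (hk : sgn7 k = 1) :
    k * gC * k⁻¹ ≠ flip7 * gC * flip7⁻¹ ∧ k * gC * k⁻¹ ≠ (flip7 * gC * flip7⁻¹)⁻¹ := by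
  have key : ∀ a b : O7, a * gC * a⁻¹ = b * gC * b⁻¹ → sgn7 a = sgn7 b := by
    intro a b h
    have hc : Commute (b⁻¹ * a) gC := by
      show b⁻¹ * a * gC = gC * (b⁻¹ * a)
      calc b⁻¹ * a * gC = b⁻¹ * (a * gC * a⁻¹) * a := by group
        _ = b⁻¹ * (b * gC * b⁻¹) * a := by rw [h]
        _ = gC * (b⁻¹ * a) := by group
    have h1 := sgn_centralizer hc
    rw [map_mul, map_inv, inv_mul_eq_one] at h1
    exact h1.symm
  constructor
  · intro h
    have := key _ _ h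
    rw [hk, sgn_flip7] at this
    exact absurd this (by decide)
  · intro h
    obtain ⟨m, hm, hm1⟩ := invC
    have e : (flip7 * gC * flip7⁻¹)⁻¹ = flip7 * m * gC * (flip7 * m)⁻¹ := by
      rw [show (flip7 * gC * flip7⁻¹)⁻¹ = flip7 * gC⁻¹ * flip7⁻¹ by group, ← hm]
      group
    rw [e] at h
    have := key _ _ h
    rw [hk, map_mul, hm1, sgn_flip7, mul_one] at this
    exact absurd this (by decide)

theorem distinct {i j : Fin 7} (k : O7) (hk : sgn7 k = 1)
    (h : k * rep i * k⁻¹ = rep j ∨ k * rep i * k⁻¹ = (rep j)⁻¹) : i = j := by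
  have hinv : inv4 (rep i) = inv4 (rep j) := by
    rcases h with h | h
    · rw [← inv4_conj k, h]
    · rw [← inv4_conj k, h, inv4_inv (rep_cube j)]
  rcases separated hinv with e | ⟨rfl, rfl⟩ | ⟨rfl, rfl⟩
  · exact e
  · rcases h with h | h
    · exact absurd h (no_merge k hk).1
    · exact absurd h (no_merge k hk).2
  · have h' : k⁻¹ * gC * k⁻¹⁻¹ = flip7 * gC * flip7⁻¹ ∨
        k⁻¹ * gC * k⁻¹⁻¹ = (flip7 * gC * flip7⁻¹)⁻¹ := by
      change k * (flip7 * gC * flip7⁻¹) * k⁻¹ = gC ∨ k * (flip7 * gC * flip7⁻¹) * k⁻¹ = gC⁻¹ at h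
      rcases h with h | h
      · left
        conv_lhs => rw [← h]
        group
      · right
        have h1 := congrArg (·⁻¹) h
        simp only [inv_inv] at h1
        have h2 : gC = k * (flip7 * gC * flip7⁻¹)⁻¹ * k⁻¹ := h1.symm.trans (by group)
        calc k⁻¹ * gC * k⁻¹⁻¹ = k⁻¹ * (k * (flip7 * gC * flip7⁻¹)⁻¹ * k⁻¹) * k⁻¹⁻¹ := by rw [← h2]
          _ = _ := by group
    have hk' : sgn7 k⁻¹ = 1 := by rw [map_inv, hk, inv_one]
    rcases h' with h' | h'
    · exact absurd h' (no_merge k⁻¹ hk').1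
    · exact absurd h' (no_merge k⁻¹ hk').2

theorem mem_omega_of_cube {g : O7} (hg : g ^ 3 = 1) : g ∈ Omega K3 ⇑Q7 := by
  have h := Subgroup.pow_index_mem (Omega K3 ⇑Q7) g
  rw [Forms.omega_index_odd Q7 (by decide) nondeg (by decide)] at h
  rwa [show g ^ 4 = g by rw [pow_succ, hg, one_mul]] at h

theorem sgn_of_mem {g : O7} (hg : g ∈ Omega K3 ⇑Q7) : sgn7 g = 1 :=
  ((QForm.mem_omega_iff_invariants (by decide) nondeg g).1 hg).1

theorem exists_omega_conj {g r k : O7} (hk : sgn7 k = 1) (h : k * g * k⁻¹ = r) :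
    ∃ k' ∈ Omega K3 ⇑Q7, k' * g * k'⁻¹ = r := by
  obtain ⟨vs, hvs, hkm⟩ := QForm.exists_list nondeg (Or.inl (by decide)) k
  obtain ⟨-, hdet⟩ := QForm.invariants_of_prod (by decide) vs hvs k hkm
  rcases neg_one_pow_eq_or K3 vs.length with e | e
  · exact ⟨k, (QForm.mem_omega_iff_invariants (by decide) nondeg k).2 ⟨hk, hdet.trans e⟩, h⟩
  · obtain ⟨m, hm, hm1⟩ := exists_neg_one
    refine ⟨m * k, (QForm.mem_omega_iff_invariants (by decide) nondeg _).2 ⟨?_, ?_⟩, ?_⟩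
    · show sgn7 (m * k) = 1
      rw [map_mul, hm1, hk, one_mul]
    · show ((m.1 : Matrix I7 I7 K3) * (k.1 : Matrix I7 I7 K3)).det = 1
      rw [Matrix.det_mul, hm, Matrix.det_neg, Matrix.det_one, card_I7, hdet, e]
      decide
    · have hc : Commute m r := Subtype.ext (Units.ext (by
        show (m.1 : Matrix I7 I7 K3) * (r.1 : Matrix I7 I7 K3) = (r.1 : Matrix I7 I7 K3) * (m.1 : Matrix I7 I7 K3)
        rw [hm, neg_one_mul, mul_neg_one]))
      calc m * k * g * (m * k)⁻¹ = m * (k * g * k⁻¹) * m⁻¹ := by group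
        _ = r := by rw [h, hc.eq, mul_inv_cancel_right]

end Cfsg.Agent.UnipSeven
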