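import Cfsg.Agent.Lib.UnipSeven.Spin

/-!
Every isometry centralising the representative with blocks `3, 2, 2` has positive spinor sign.
-/

set_option autoImplicit false
set_option linter.unusedSectionVars false

namespace Cfsg.Agent.UnipSeven

open scoped Matrix
open QForm (act)

/-- The inverse of the frame matrix. -/
def PC : Matrix (Fin 7) I7 K3 := GC' 1 * ECᵀ * B7

theorem EC_PC : EC * PC = 1 := by decide +kernel

theorem PC_EC : PC * EC = 1 := by decide +kernel

theorem MC_EC : MC * EC = EC * SC := by decide +kernel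

theorem PC_MC : PC * MC = SC * PC := by decide +kernel

theorem PC_form : PCᵀ * GC 1 * PC = B7 := by decide +kernel

theorem EC_form : ECᵀ * B7 * EC = GC 1 := by decide +kernel

/-- The matrix in frame coordinates. -/
noncomputable def coord (z : O7) : Matrix (Fin 7) (Fin 7) K3 := PC * (z.1 : Matrix I7 I7 K3) * EC

theorem coord_mul (y z : O7) : coord (y * z) = coord y * coord z := by
  show PC * ((y.1 : Matrix I7 I7 K3) * (z.1 : Matrix I7 I7 K3)) * EC = _
  simp only [coord, Matrix.mul_assoc]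
  rw [← Matrix.mul_assoc EC PC, EC_PC, Matrix.one_mul]

theorem coord_one : coord 1 = 1 := by
  show PC * 1 * EC = 1
  rw [Matrix.mul_one, PC_EC]

theorem coord_pow (z : O7) (n : ℕ) : coord (z ^ n) = coord z ^ n := by
  induction n with
  | zero => rw [pow_zero, pow_zero, coord_one]
  | succ n ih => rw [pow_succ, pow_succ, coord_mul, ih]

theorem eq_one_of_coord {z : O7} (h : coord z = 1) : z = 1 := by
  refine Subtype.ext (Units.ext ?_)
  show (z.1 : Matrix I7 I7 K3) = 1
  calc (z.1 : Matrix I7 I7 K3) = EC * coord z * PC := by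
        simp only [coord, ← Matrix.mul_assoc, EC_PC, Matrix.one_mul]
        rw [Matrix.mul_assoc, EC_PC, Matrix.mul_one]
    _ = 1 := by rw [h, Matrix.mul_one, EC_PC]

theorem iso_matrix (z : O7) : (z.1 : Matrix I7 I7 K3)ᵀ * B7 * (z.1 : Matrix I7 I7 K3) = B7 := by
  ext p q
  have h := QForm.act_polar Q7 z (Pi.single p 1) (Pi.single q 1)
  change pol Q7 _ _ = pol Q7 _ _ at h
  rw [pol_eq, pol_eq, dot_mulVec_mulVec] at h
  simpa [Matrix.mulVec_single_one] using h

theorem coord_form (z : O7) : (coord z)ᵀ * GC 1 * coord z = GC 1 := by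
  calc (coord z)ᵀ * GC 1 * coord z
      = ECᵀ * ((z.1 : Matrix I7 I7 K3)ᵀ * (PCᵀ * GC 1 * PC) * (z.1 : Matrix I7 I7 K3)) * EC := by
        simp only [coord, Matrix.transpose_mul, Matrix.mul_assoc]
    _ = GC 1 := by rw [PC_form, iso_matrix, EC_form]

theorem coord_comm {z : O7} (h : Commute z gC) : coord z * SC = SC * coord z := by
  have h' : (z.1 : Matrix I7 I7 K3) * MC = MC * (z.1 : Matrix I7 I7 K3) :=
    congrArg (fun y : O7 => (y.1 : Matrix I7 I7 K3)) h
  calc coord z * SC = PC * ((z.1 : Matrix I7 I7 K3) * MC) * EC := by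
        simp only [coord, Matrix.mul_assoc, MC_EC]
    _ = SC * coord z := by
        rw [h']
        simp only [coord, ← Matrix.mul_assoc, PC_MC]

/-- The block diagonal matrix of `T` acting on both pairs. -/
def wMat (a b c d : K3) : Matrix (Fin 7) (Fin 7) K3 :=
  !![1, 0, 0, 0, 0, 0, 0; 0, 1, 0, 0, 0, 0, 0; 0, 0, 1, 0, 0, 0, 0;
    0, 0, 0, a, b, 0, 0; 0, 0, 0, c, d, 0, 0; 0, 0, 0, 0, 0, a, b; 0, 0, 0, 0, 0, c, d]

/-- An element of order three centralising `gC`. -/
theorem exists_transvection {a b c d : K3} (h : (a, b, c, d) ∈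
    [((1 : K3), (0 : K3), (0 : K3), (1 : K3)), (1, 1, 0, 1), (1, 2, 0, 1), (1, 0, 1, 1), (1, 0, 2, 1)]) :
    ∃ z : O7, Commute z gC ∧ sgn7 z = 1 ∧ coord z = wMat a b c d := by
  have key : ∀ a b c d : K3, (a, b, c, d) ∈
      [((1 : K3), (0 : K3), (0 : K3), (1 : K3)), (1, 1, 0, 1), (1, 2, 0, 1), (1, 0, 1, 1), (1, 0, 2, 1)] →
      (EC * wMat a b c d * PC)ᵀ * B7 * (EC * wMat a b c d * PC) = B7 ∧
      wMat a b c d * (wMat a b c d * wMat a b c d) = 1 ∧ wMat a b c d * SC = SC * wMat a b c d := by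
    decide +kernel
  obtain ⟨h1, h2, h3⟩ := key a b c d h
  have hcube : EC * wMat a b c d * PC * (EC * wMat a b c d * PC * (EC * wMat a b c d * PC)) = 1 := by
    calc EC * wMat a b c d * PC * (EC * wMat a b c d * PC * (EC * wMat a b c d * PC))
        = EC * (wMat a b c d * ((PC * EC) * (wMat a b c d * ((PC * EC) * wMat a b c d)))) * PC := by
          simp only [Matrix.mul_assoc]
      _ = 1 := by rw [PC_EC, Matrix.one_mul, Matrix.one_mul, h2, Matrix.mul_one, EC_PC]
  refine ⟨mk3 _ h1 hcube, ?_, ?_, ?_⟩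
  · refine Subtype.ext (Units.ext ?_)
    show EC * wMat a b c d * PC * MC = MC * (EC * wMat a b c d * PC)
    simp only [Matrix.mul_assoc, PC_MC]
    rw [← Matrix.mul_assoc MC, MC_EC]
    simp only [← Matrix.mul_assoc]
    rw [Matrix.mul_assoc EC _ SC, h3, ← Matrix.mul_assoc]
  · have h4 : sgn7 (mk3 _ h1 hcube) ^ 3 = 1 := by rw [← map_pow, mk3_cube, map_one]
    rcases Int.units_eq_one_or (sgn7 (mk3 _ h1 hcube)) with e | e
    · exact e
    · rw [e] at h4; exact absurd h4 (by decide)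
  · show PC * (EC * wMat a b c d * PC) * EC = _
    simp only [← Matrix.mul_assoc, PC_EC, Matrix.one_mul]
    rw [Matrix.mul_assoc, PC_EC, Matrix.mul_one]

/-- The level of a frame index. -/
def lvl : Fin 7 → ℕ := ![4, 2, 0, 3, 3, 1, 1]

theorem pow_eq_zero_of_level {D : Matrix (Fin 7) (Fin 7) K3} (h : ∀ i j, lvl j ≤ lvl i → D i j = 0) :
    D ^ 9 = 0 := by
  have key : ∀ k : ℕ, ∀ i j, (D ^ k) i j ≠ 0 → lvl i + k ≤ lvl j := by
    intro k
    induction k with
    | zero =>
      intro i j hne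
      by_cases hij : i = j
      · rw [hij]; exact le_rfl
      · exact absurd (by rw [pow_zero, Matrix.one_apply_ne hij]) hne
    | succ k ih =>
      intro i j hne
      rw [pow_succ, Matrix.mul_apply] at hne
      obtain ⟨l, -, hl⟩ := Finset.exists_ne_zero_of_sum_ne_zero hne
      have h1 := ih i l (left_ne_zero_of_mul hl)
      have h2 : ¬ lvl j ≤ lvl l := fun hle => right_ne_zero_of_mul hl (h l j hle)
      omega
  ext i j
  by_contra hne
  have h1 := key 9 i j hne
  have h2 : lvl j ≤ 4 := (by decide : ∀ j, lvl j ≤ 4) j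
  omega

/-- Entries of a matrix commuting with `SC`. -/
theorem entries {M : Matrix (Fin 7) (Fin 7) K3} (hc : M * SC = SC * M) :
    (∀ i, M i 1 = ![0, M 0 0, M 1 0, 0, 0, M 3 0, M 4 0] i) ∧
      (∀ i, M i 2 = ![0, 0, M 0 0, 0, 0, 0, 0] i) ∧
      (∀ i, M i 5 = ![0, 0, M 1 3, 0, 0, M 3 3, M 4 3] i) ∧
      (∀ i, M i 6 = ![0, 0, M 1 4, 0, 0, M 3 4, M 4 4] i) ∧ M 0 3 = 0 ∧ M 0 4 = 0 := by
  have e := fun i j => congrFun (congrFun hc i) j
  simp only [Matrix.mul_apply, Fin.sum_univ_seven] at e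
  have e01 : ∀ i, M i 1 = ![0, M 0 0, M 1 0, 0, 0, M 3 0, M 4 0] i := by
    intro i
    have := e i 0
    fin_cases i <;> simp [SC] at this ⊢ <;> linear_combination this
  have e12 : ∀ i, M i 2 = ![0, M 0 1, M 1 1, 0, 0, M 3 1, M 4 1] i := by
    intro i
    have := e i 1
    fin_cases i <;> simp [SC] at this ⊢ <;> linear_combination this
  have e35 : ∀ i, M i 5 = ![0, M 0 3, M 1 3, 0, 0, M 3 3, M 4 3] i := by
    intro i
    have := e i 3
    fin_cases i <;> simp [SC] at this ⊢ <;> linear_combination this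
  have e46 : ∀ i, M i 6 = ![0, M 0 4, M 1 4, 0, 0, M 3 4, M 4 4] i := by
    intro i
    have := e i 4
    fin_cases i <;> simp [SC] at this ⊢ <;> linear_combination this
  have z15 : M 1 5 = 0 := by
    have := e 2 5
    simp [SC] at this
    linear_combination this
  have z16 : M 1 6 = 0 := by
    have := e 2 6
    simp [SC] at this
    linear_combination this
  have h03 : M 0 3 = 0 := by simpa [z15] using (e35 1).symm
  have h04 : M 0 4 = 0 := by simpa [z16] using (e46 1).symm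
  refine ⟨e01, fun i => ?_, fun i => ?_, fun i => ?_, h03, h04⟩
  · rw [e12]; fin_cases i <;> simp [e01]
  · rw [e35, h03]
  · rw [e46, h04]

theorem unipotent_of_entries {M : Matrix (Fin 7) (Fin 7) K3} (hc : M * SC = SC * M) (h00 : M 0 0 = 1)
    (h33 : M 3 3 = 1) (h44 : M 4 4 = 1) (h34 : M 3 4 = 0) (h43 : M 4 3 = 0) : M ^ 9 = 1 := by
  obtain ⟨e1, e2, e5, e6, h03, h04⟩ := entries hc
  have hz : (M - 1) ^ 9 = 0 := by
    refine pow_eq_zero_of_level fun i j hij => ?_
    rw [Matrix.sub_apply]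
    fin_cases i <;> fin_cases j <;> first
      | (exfalso; revert hij; decide)
      | simp [e1, e2, e5, e6, h00, h33, h44, h34, h43, h03, h04]
  have hcomm : Commute (M - 1) (1 : Matrix (Fin 7) (Fin 7) K3) := Commute.one_right _
  have h3 := add_pow_char_pow_of_commute 3 2 hcomm
  rw [sub_add_cancel] at h3
  simpa [hz] using h3

theorem sgn_centralizer {z : O7} (hz : Commute z gC) : sgn7 z = 1 := by
  suffices main : ∀ z : O7, Commute z gC → coord z 0 0 = 1 → sgn7 z = 1 by
    have h02 : coord z 0 0 * coord z 0 0 = 1 := by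
      obtain ⟨e1, e2, e5, e6, h03, h04⟩ := entries (coord_comm hz)
      have h := congrFun (congrFun (coord_form z) 0) 2
      simp [Matrix.mul_apply, Fin.sum_univ_seven, GC, e2] at h
      linear_combination h
    rcases mul_self_eq_one_iff.1 h02 with h | h
    · exact main z hz h
    obtain ⟨m, hm, hm1⟩ := exists_neg_one
    have hmc : Commute m gC := Subtype.ext (Units.ext (by
      show (m.1 : Matrix I7 I7 K3) * MC = MC * (m.1 : Matrix I7 I7 K3)
      rw [hm, neg_one_mul, mul_neg_one]))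
    have := main (m * z) (hmc.mul_left hz) (by
      rw [coord_mul, show coord m = -1 from by
        rw [coord, hm, Matrix.mul_neg, Matrix.mul_one, Matrix.neg_mul, PC_EC]]
      rw [neg_one_mul, Matrix.neg_apply, h, neg_neg])
    rwa [map_mul, hm1, one_mul] at this
  intro z hz h00
  obtain ⟨e1, e2, e5, e6, h03, h04⟩ := entries (coord_comm hz)
  have hdet : coord z 3 3 * coord z 4 4 - coord z 4 3 * coord z 3 4 = 1 := by
    have h := congrFun (congrFun (coord_form z) 3) 6
    simp [Matrix.mul_apply, Fin.sum_univ_seven, GC, e6, h03, h04] at h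
    linear_combination h
  have key : ∀ a b c d : K3, a * d - c * b = 1 → ∃ i j k l : K3,
      (let T := (!![1, i; 0, 1] : Matrix (Fin 2) (Fin 2) K3) * !![1, 0; j, 1] * !![1, k; 0, 1] * !![1, 0; l, 1] *
        !![a, b; c, d]
       T = 1) := by decide +kernel
  obtain ⟨i, j, k, l, hT⟩ := key _ _ _ _ hdet
  obtain ⟨u₁, c₁, s₁, m₁⟩ := exists_transvection (a := 1) (b := i) (c := 0) (d := 1) ((by decide : ∀ t : K3, (((1 : K3), t, (0 : K3), (1 : K3))) ∈ [((1 : K3), (0 : K3), (0 : K3), (1 : K3)), (1, 1, 0, 1), (1, 2, 0, 1), (1, 0, 1, 1), (1, 0, 2, 1)]) i)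
  obtain ⟨u₂, c₂, s₂, m₂⟩ := exists_transvection (a := 1) (b := 0) (c := j) (d := 1) ((by decide : ∀ t : K3, (((1 : K3), (0 : K3), t, (1 : K3))) ∈ [((1 : K3), (0 : K3), (0 : K3), (1 : K3)), (1, 1, 0, 1), (1, 2, 0, 1), (1, 0, 1, 1), (1, 0, 2, 1)]) j)
  obtain ⟨u₃, c₃, s₃, m₃⟩ := exists_transvection (a := 1) (b := k) (c := 0) (d := 1) ((by decide : ∀ t : K3, (((1 : K3), t, (0 : K3), (1 : K3))) ∈ [((1 : K3), (0 : K3), (0 : K3), (1 : K3)), (1, 1, 0, 1), (1, 2, 0, 1), (1, 0, 1, 1), (1, 0, 2, 1)]) k)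
  obtain ⟨u₄, c₄, s₄, m₄⟩ := exists_transvection (a := 1) (b := 0) (c := l) (d := 1) ((by decide : ∀ t : K3, (((1 : K3), (0 : K3), t, (1 : K3))) ∈ [((1 : K3), (0 : K3), (0 : K3), (1 : K3)), (1, 1, 0, 1), (1, 2, 0, 1), (1, 0, 1, 1), (1, 0, 2, 1)]) l)
  set y := u₁ * u₂ * u₃ * u₄ * z with hy
  have hyc : Commute y gC := (((c₁.mul_left c₂).mul_left c₃).mul_left c₄).mul_left hz
  have hMy : coord y = wMat 1 i 0 1 * wMat 1 0 j 1 * wMat 1 k 0 1 * wMat 1 0 l 1 * coord z := by
    rw [hy, coord_mul, coord_mul, coord_mul, coord_mul, m₁, m₂, m₃, m₄]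
  have hw : ∀ (a b c d : K3) (X : Matrix (Fin 7) (Fin 7) K3),
      (wMat a b c d * X) 0 0 = X 0 0 ∧ (wMat a b c d * X) 3 3 = a * X 3 3 + b * X 4 3 ∧
      (wMat a b c d * X) 3 4 = a * X 3 4 + b * X 4 4 ∧ (wMat a b c d * X) 4 3 = c * X 3 3 + d * X 4 3 ∧
      (wMat a b c d * X) 4 4 = c * X 3 4 + d * X 4 4 := fun a b c d X => by
    simp [wMat, Matrix.mul_apply, Fin.sum_univ_seven]
  have t11 := congrFun (congrFun hT 0) 0
  have t12 := congrFun (congrFun hT 0) 1
  have t21 := congrFun (congrFun hT 1) 0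
  have t22 := congrFun (congrFun hT 1) 1
  simp [Matrix.mul_apply, Fin.sum_univ_two] at t11 t12 t21 t22
  have h9 : y ^ 9 = 1 := by
    refine eq_one_of_coord ?_
    rw [coord_pow]
    refine unipotent_of_entries (coord_comm hyc) ?_ ?_ ?_ ?_ ?_ <;>
      simp only [hMy, Matrix.mul_assoc, hw, h00]
    · linear_combination t11
    · linear_combination t22
    · linear_combination t12
    · linear_combination t21
  have hs : sgn7 y ^ 9 = 1 := by rw [← map_pow, h9, map_one]
  rw [hy, map_mul, map_mul, map_mul, map_mul, s₁, s₂, s₃, s₄, one_mul, one_mul, one_mul, one_mul] at hs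
  rcases Int.units_eq_one_or (sgn7 z) with e | e
  · exact e
  · rw [e] at hs; exact absurd hs (by decide)

end Cfsg.Agent.UnipSeven
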