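import Cfsg.Agent.Lib.UnipSeven.Frame

/-!
Decomposition of an isometry of order three of a seven-dimensional space over the field with three elements into
frames of four shapes.
-/

set_option autoImplicit false
set_option linter.unusedSectionVars false

namespace Cfsg.Agent.UnipSeven

open scoped Matrix
open QForm (act)

/-- Shape `(2,2)`: `x, y, Nx, Ny`. -/
def GA : Matrix (Fin 4) (Fin 4) K3 :=
  !![0, 0, 0, 1; 0, 0, -1, 0; 0, -1, 0, 0; 1, 0, 0, 0]

def SA : Matrix (Fin 4) (Fin 4) K3 :=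
  !![1, 0, 0, 0; 0, 1, 0, 0; 1, 0, 1, 0; 0, 1, 0, 1]

/-- Shape `(3)`: `v, Nv, N²v`. -/
def GB (c : K3) : Matrix (Fin 3) (Fin 3) K3 :=
  !![0, -c, c; -c, -c, 0; c, 0, 0]

def SB : Matrix (Fin 3) (Fin 3) K3 :=
  !![1, 0, 0; 1, 1, 0; 0, 1, 1]

/-- Shape `(3,2,2)`. -/
def GC (c : K3) : Matrix (Fin 7) (Fin 7) K3 :=
  !![0, -c, c, 0, 0, 0, 0; -c, -c, 0, 0, 0, 0, 0; c, 0, 0, 0, 0, 0, 0;
    0, 0, 0, 0, 0, 0, 1; 0, 0, 0, 0, 0, -1, 0; 0, 0, 0, 0, -1, 0, 0; 0, 0, 0, 1, 0, 0, 0]

def SC : Matrix (Fin 7) (Fin 7) K3 :=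
  !![1, 0, 0, 0, 0, 0, 0; 1, 1, 0, 0, 0, 0, 0; 0, 1, 1, 0, 0, 0, 0;
    0, 0, 0, 1, 0, 0, 0; 0, 0, 0, 0, 1, 0, 0; 0, 0, 0, 1, 0, 1, 0; 0, 0, 0, 0, 1, 0, 1]

/-- Shape `(3,3)`. -/
def GD (c d : K3) : Matrix (Fin 6) (Fin 6) K3 :=
  !![0, -c, c, 0, 0, 0; -c, -c, 0, 0, 0, 0; c, 0, 0, 0, 0, 0;
    0, 0, 0, 0, -d, d; 0, 0, 0, -d, -d, 0; 0, 0, 0, d, 0, 0]

def SD : Matrix (Fin 6) (Fin 6) K3 :=
  !![1, 0, 0, 0, 0, 0; 1, 1, 0, 0, 0, 0; 0, 1, 1, 0, 0, 0;
    0, 0, 0, 1, 0, 0; 0, 0, 0, 1, 1, 0; 0, 0, 0, 0, 1, 1]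

theorem det_GA : GA.det ≠ 0 := by decide +kernel

theorem det_GB : ∀ c : K3, c ≠ 0 → (GB c).det ≠ 0 := by decide +kernel

theorem det_ne_zero_of_mul {n : Type} [Fintype n] [DecidableEq n] {M X : Matrix n n K3} (h : M * X = 1) :
    M.det ≠ 0 := Matrix.det_ne_zero_of_right_inverse h

/-- The inverse of `GC c`. -/
def GC' (c : K3) : Matrix (Fin 7) (Fin 7) K3 :=
  !![0, 0, c, 0, 0, 0, 0; 0, -c, -c, 0, 0, 0, 0; c, -c, -c, 0, 0, 0, 0;
    0, 0, 0, 0, 0, 0, 1; 0, 0, 0, 0, 0, -1, 0; 0, 0, 0, 0, -1, 0, 0; 0, 0, 0, 1, 0, 0, 0]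

/-- The inverse of `GD c d`. -/
def GD' (c d : K3) : Matrix (Fin 6) (Fin 6) K3 :=
  !![0, 0, c, 0, 0, 0; 0, -c, -c, 0, 0, 0; c, -c, -c, 0, 0, 0;
    0, 0, 0, 0, 0, d; 0, 0, 0, 0, -d, -d; 0, 0, 0, d, -d, -d]

theorem GC_mul : ∀ c : K3, c ≠ 0 → GC c * GC' c = 1 := by decide +kernel

theorem GD_mul : ∀ c d : K3, c ≠ 0 → d ≠ 0 → GD c d * GD' c d = 1 := by decide +kernel

theorem det_GC (c : K3) (hc : c ≠ 0) : (GC c).det ≠ 0 := det_ne_zero_of_mul (GC_mul c hc)

theorem det_GD (c d : K3) (hc : c ≠ 0) (hd : d ≠ 0) : (GD c d).det ≠ 0 := det_ne_zero_of_mul (GD_mul c d hc hd)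

variable {ι : Type} [Fintype ι] [DecidableEq ι] {Q : QuadraticForm K3 (ι → K3)}
variable {κ : Type} [Fintype κ] [DecidableEq κ]

/-- Orthogonal to the family. -/
def Perp (Q : QuadraticForm K3 (ι → K3)) (e : κ → ι → K3) (x : ι → K3) : Prop := ∀ i, pol Q (e i) x = 0

theorem Perp.add {e : κ → ι → K3} {x y : ι → K3} (hx : Perp Q e x) (hy : Perp Q e y) : Perp Q e (x + y) :=
  fun i => by rw [pol_add_right, hx i, hy i, add_zero]

theorem Perp.smul {e : κ → ι → K3} {x : ι → K3} (a : K3) (hx : Perp Q e x) : Perp Q e (a • x) :=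
  fun i => by rw [pol_smul_right, hx i, mul_zero]

theorem Perp.empty (e : Fin 0 → ι → K3) (x : ι → K3) : Perp Q e x := fun i => i.elim0

/-- At most seven independent vectors. -/
theorem card_add_le (h7 : Fintype.card ι = 7) {G : Matrix κ κ K3} (hG : G.det ≠ 0) {e : κ → ι → K3}
    (hgram : ∀ i j, pol Q (e i) (e j) = G i j) {μ : Type} [Fintype μ] [DecidableEq μ] {f : μ → ι → K3}
    (hf : LinearIndependent K3 f) (hperp : ∀ m, Perp Q e (f m)) :
    Fintype.card κ + Fintype.card μ ≤ 7 := by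
  have hli : LinearIndependent K3 (Sum.elim e f) := by
    rw [Fintype.linearIndependent_iff]
    intro a ha
    rw [Fintype.sum_sum_type] at ha
    simp only [Sum.elim_inl, Sum.elim_inr] at ha
    have ha0 : (fun j => a (Sum.inl j)) = 0 := by
      refine Matrix.eq_zero_of_mulVec_eq_zero hG (funext fun i => ?_)
      have := congrArg (pol Q (e i)) ha
      rw [pol_add_right, pol_sum_smul_right, pol_sum_smul_right,
        show pol Q (e i) (0 : ι → K3) = 0 from QuadraticMap.polar_zero_right Q _,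
        show ∑ m, a (Sum.inr m) * pol Q (e i) (f m) = 0 from
          Finset.sum_eq_zero fun m _ => by rw [hperp m i, mul_zero], add_zero] at this
      refine (Finset.sum_congr rfl fun j _ => ?_).trans this
      rw [hgram, mul_comm]
    rintro (j | m)
    · exact congrFun ha0 j
    · rw [Finset.sum_eq_zero fun j _ => by rw [show a (Sum.inl j) = 0 from congrFun ha0 j, zero_smul],
        zero_add] at ha
      exact Fintype.linearIndependent_iff.1 hf _ ha m
  have h := hli.fintype_card_le_finrank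
  rwa [Fintype.card_sum, Module.finrank_fintype_fun_eq_card, h7] at h

variable {g : ↥(isometryGroup K3 ⇑Q)} (hg : g ^ 3 = 1)
include hg

theorem beta_symm (x y : ι → K3) : pol Q (nil g (nil g x)) y = pol Q x (nil g (nil g y)) := by
  rw [adj_nil hg, adj_nil hg, adj_nil hg x, nil_cube hg]
  have h : nil g (0 : ι → K3) = 0 := nil_zero
  rw [h, show pol Q x (0 : ι → K3) = 0 from QuadraticMap.polar_zero_right Q _]
  ring

/-- Vectors orthogonal to an invariant family form an invariant set. -/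
theorem perp_nil {e : κ → ι → K3} {S : Matrix κ κ K3} (hmove : ∀ j, act Q g (e j) = ∑ i, S i j • e i)
    {x : ι → K3} (hx : Perp Q e x) : Perp Q e (nil g x) := by
  intro i
  have hN : ∀ i, pol Q x (nil g (e i)) = 0 := fun i => by
    rw [nil, pol_sub_right, hmove, pol_sum_smul_right, pol_comm x (e i), hx i, sub_zero]
    exact Finset.sum_eq_zero fun j _ => by rw [pol_comm, hx j, mul_zero]
  have h0 : pol Q (nil g (e i)) x = 0 := by rw [pol_comm]; exact hN i
  have h1 : pol Q (nil g (nil g (e i))) x = 0 := by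
    have hs : nil g (nil g (e i)) = (∑ j, S j i • nil g (e j)) - nil g (e i) := by
      conv_lhs => rw [show nil g (e i) = act Q g (e i) - e i from rfl, nil_sub, hmove]
      congr 1
      rw [nil, act_sum_smul, ← Finset.sum_sub_distrib]
      exact Finset.sum_congr rfl fun j _ => by rw [nil, smul_sub]
    rw [pol_comm, hs, pol_sub_right, pol_sum_smul_right, hN, sub_zero]
    exact Finset.sum_eq_zero fun j _ => by rw [hN, mul_zero]
  rw [beta_symm hg] at h1
  rw [adj_nil hg, h1, add_zero] at h0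
  linear_combination -h0

variable (hQ : (QuadraticMap.polarBilin Q).Nondegenerate)
include hQ

theorem exists_pair_perp {G : Matrix κ κ K3} (hG : G.det ≠ 0) {e : κ → ι → K3}
    (hgram : ∀ i j, pol Q (e i) (e j) = G i j) {z : ι → K3} (hz : Perp Q e z) (hne : z ≠ 0) :
    ∃ y, Perp Q e y ∧ pol Q z y ≠ 0 := by
  obtain ⟨y, hy⟩ : ∃ y, pol Q z y ≠ 0 := by
    by_contra! h
    exact hne (hQ.1 z h)
  obtain ⟨a, ha⟩ := exists_split hG hgram y
  refine ⟨_, ha, ?_⟩
  rw [pol_sub_right, pol_sum_smul_right, Finset.sum_eq_zero fun j _ => by rw [pol_comm, hz j, mul_zero],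
    sub_zero]
  exact hy

/-- A block of size three orthogonal to an invariant family. -/
theorem exists_block {G S : Matrix κ κ K3} (hG : G.det ≠ 0) {e : κ → ι → K3}
    (hgram : ∀ i j, pol Q (e i) (e j) = G i j) (hmove : ∀ j, act Q g (e j) = ∑ i, S i j • e i)
    {x : ι → K3} (hx : Perp Q e x) (hne : nil g (nil g x) ≠ 0) :
    ∃ c : K3, c ≠ 0 ∧ ∃ f : Fin 3 → ι → K3, (∀ m, Perp Q e (f m)) ∧
      (∀ i j, pol Q (f i) (f j) = GB c i j) ∧ ∀ j, act Q g (f j) = ∑ i, SB i j • f i := by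
  obtain ⟨y, hy, hxy⟩ := exists_pair_perp hg hQ hG hgram (perp_nil hg hmove (perp_nil hg hmove hx)) hne
  rw [beta_symm hg] at hxy
  obtain ⟨v, hv, hvv⟩ : ∃ v, Perp Q e v ∧ pol Q v (nil g (nil g v)) ≠ 0 := by
    by_contra! h
    have h1 := h _ hx
    have h2 := h _ hy
    have h3 := h _ (hx.add hy)
    rw [nil_add, nil_add, pol_add_left, pol_add_right, pol_add_right,
      show pol Q y (nil g (nil g x)) = pol Q x (nil g (nil g y)) from by rw [← beta_symm hg, pol_comm],
      h1, h2] at h3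
    refine hxy ?_
    revert h3
    generalize pol Q x (nil g (nil g y)) = b
    decide +revert
  set c := pol Q v (nil g (nil g v)) with hc
  set w := nil g (nil g v) with hw
  have hw1 : nil g w = 0 := nil_cube hg v
  have h0 : ∀ z, pol Q z (0 : ι → K3) = 0 := fun z => QuadraticMap.polar_zero_right Q z
  have e11 : pol Q (nil g v) (nil g v) = -c := by
    rw [adj_nil hg, ← hw, hw1, h0, add_zero]
  have e12 : pol Q (nil g v) w = 0 := by rw [adj_nil hg, hw1, nil_zero, h0]; ring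
  have e22 : pol Q w w = 0 := by rw [hw, beta_symm hg, ← hw, hw1, nil_zero, h0]
  have e01 : pol Q v (nil g v) = -c := by
    have h := adj_nil hg v v
    rw [pol_comm, ← hw, ← hc] at h
    revert h
    generalize pol Q v (nil g v) = a
    generalize c = b
    decide +revert
  obtain ⟨t, ht⟩ : ∃ t : K3, pol Q v v + t * c + t * c = 0 := by
    have : ∀ d b : K3, b ≠ 0 → ∃ t : K3, d + t * b + t * b = 0 := by decide
    exact this _ _ hvv
  set v' := v + t • w with hv'
  have hn1 : nil g v' = nil g v := by rw [hv', nil_add, nil_smul, hw1, smul_zero, add_zero]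
  refine ⟨c, hvv, ![v', nil g v, w], ?_, ?_, ?_⟩
  · have hN := perp_nil hg hmove hv
    intro m
    fin_cases m
    · exact hv.add ((perp_nil hg hmove hN).smul t)
    · exact hN
    · exact perp_nil hg hmove hN
  · have f00 : pol Q v' v' = 0 := by
      rw [hv', pol_add_left, pol_add_right, pol_add_right, pol_smul_left, pol_smul_right, pol_smul_right,
        pol_smul_left, pol_comm w v, e22, ← hc]
      linear_combination ht
    have f01 : pol Q v' (nil g v) = -c := by
      rw [hv', pol_add_left, pol_smul_left, e01, pol_comm w, e12, mul_zero, add_zero]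
    have f02 : pol Q v' w = c := by rw [hv', pol_add_left, pol_smul_left, e22, mul_zero, add_zero, hc]
    intro i j
    fin_cases i <;> fin_cases j <;> simp [GB, f00, f01, f02, e11, e12, e22, pol_comm (nil g v) v',
      pol_comm w v', pol_comm w (nil g v)]
  · intro j
    fin_cases j <;> simp [SB, Fin.sum_univ_three, act_eq_nil, hn1, hw1, ← hw]

/-- A pair of blocks of size two orthogonal to an invariant family, where `N² = 0`. -/
theorem exists_pairBlock {G S : Matrix κ κ K3} (hG : G.det ≠ 0) {e : κ → ι → K3}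
    (hgram : ∀ i j, pol Q (e i) (e j) = G i j) (hmove : ∀ j, act Q g (e j) = ∑ i, S i j • e i)
    (hsq : ∀ x, Perp Q e x → nil g (nil g x) = 0) {x : ι → K3} (hx : Perp Q e x) (hne : nil g x ≠ 0) :
    ∃ f : Fin 4 → ι → K3, (∀ m, Perp Q e (f m)) ∧
      (∀ i j, pol Q (f i) (f j) = GA i j) ∧ ∀ j, act Q g (f j) = ∑ i, SA i j • f i := by
  have h0 : ∀ z, pol Q z (0 : ι → K3) = 0 := fun z => QuadraticMap.polar_zero_right Q z
  have anti : ∀ a b, Perp Q e b → pol Q (nil g a) b = -pol Q a (nil g b) := fun a b hb => by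
    rw [adj_nil hg, hsq b hb, h0, add_zero]
  have alt : ∀ a, Perp Q e a → pol Q a (nil g a) = 0 := fun a ha => by
    have h := anti a a ha
    rw [pol_comm] at h
    revert h
    generalize pol Q a (nil g a) = b
    decide +revert
  have NN : ∀ a b, Perp Q e b → pol Q (nil g a) (nil g b) = 0 := fun a b hb => by
    rw [anti a _ (perp_nil hg hmove hb), hsq b hb, h0, neg_zero]
  obtain ⟨y₀, hy₀, hxy₀⟩ := exists_pair_perp hg hQ hG hgram (perp_nil hg hmove hx) hne
  rw [anti x y₀ hy₀, neg_ne_zero] at hxy₀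
  obtain ⟨y, hy'⟩ : ∃ y, y = pol Q x (nil g y₀) • y₀ := ⟨_, rfl⟩
  have hy : Perp Q e y := hy' ▸ hy₀.smul _
  have hb : pol Q x (nil g y) = 1 := by
    rw [hy', nil_smul, pol_smul_right]
    revert hxy₀
    generalize pol Q x (nil g y₀) = b
    decide +revert
  have hb' : pol Q y (nil g x) = -1 := by rw [pol_comm, anti x y hy, hb]
  obtain ⟨x₁, hx₁⟩ : ∃ z, z = x + pol Q x x • nil g y := ⟨_, rfl⟩
  obtain ⟨y₁, hy₁⟩ : ∃ z, z = y + (-pol Q y y) • nil g x := ⟨_, rfl⟩
  have n1 : nil g x₁ = nil g x := by rw [hx₁, nil_add, nil_smul, hsq y hy, smul_zero, add_zero]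
  have n2 : nil g y₁ = nil g y := by rw [hy₁, nil_add, nil_smul, hsq x hx, smul_zero, add_zero]
  have px : Perp Q e (nil g x) := perp_nil hg hmove hx
  have py : Perp Q e (nil g y) := perp_nil hg hmove hy
  have a00 : pol Q x₁ x₁ = 0 := by
    rw [hx₁, pol_add_left, pol_add_right, pol_add_right, pol_smul_left, pol_smul_right, pol_smul_right,
      pol_smul_left, pol_comm (nil g y) x, hb, NN y y hy, mul_zero, mul_zero]
    generalize pol Q x x = d
    decide +revert
  have a11 : pol Q y₁ y₁ = 0 := by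
    rw [hy₁, pol_add_left, pol_add_right, pol_add_right, pol_smul_left, pol_smul_right, pol_smul_right,
      pol_smul_left, pol_comm (nil g x) y, hb', NN x x hx, mul_zero, mul_zero]
    generalize pol Q y y = d
    decide +revert
  have c02 : pol Q x₁ (nil g x) = 0 := by
    rw [hx₁, pol_add_left, pol_smul_left, alt x hx, NN y x hx, mul_zero, add_zero]
  have c03 : pol Q x₁ (nil g y) = 1 := by
    rw [hx₁, pol_add_left, pol_smul_left, hb, NN y y hy, mul_zero, add_zero]
  have c12 : pol Q y₁ (nil g x) = -1 := by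
    rw [hy₁, pol_add_left, pol_smul_left, hb', NN x x hx, mul_zero, add_zero]
  have c13 : pol Q y₁ (nil g y) = 0 := by
    rw [hy₁, pol_add_left, pol_smul_left, alt y hy, NN x y hy, mul_zero, add_zero]
  obtain ⟨x₂, hx₂⟩ : ∃ z, z = x₁ + (pol Q x₁ y₁) • nil g x := ⟨_, rfl⟩
  have n3 : nil g x₂ = nil g x := by rw [hx₂, nil_add, nil_smul, n1, hsq x hx, smul_zero, add_zero]
  refine ⟨![x₂, y₁, nil g x, nil g y], ?_, ?_, ?_⟩
  · intro m
    fin_cases m
    · show Perp Q e x₂
      rw [hx₂, hx₁]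
      exact (hx.add (py.smul _)).add (px.smul _)
    · show Perp Q e y₁
      rw [hy₁]
      exact hy.add (px.smul _)
    · exact px
    · exact py
  · have b00 : pol Q x₂ x₂ = 0 := by
      rw [hx₂, pol_add_left, pol_add_right, pol_add_right, pol_smul_left, pol_smul_right, pol_smul_right,
        pol_smul_left, pol_comm (nil g x) x₁, a00, c02, NN x x hx]
      ring
    have b01 : pol Q x₂ y₁ = 0 := by
      rw [hx₂, pol_add_left, pol_smul_left, pol_comm (nil g x), c12]
      ring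
    have b02 : pol Q x₂ (nil g x) = 0 := by
      rw [hx₂, pol_add_left, pol_smul_left, c02, NN x x hx, mul_zero, add_zero]
    have b03 : pol Q x₂ (nil g y) = 1 := by
      rw [hx₂, pol_add_left, pol_smul_left, c03, NN x y hy, mul_zero, add_zero]
    intro i j
    fin_cases i <;> fin_cases j <;> simp [GA, b00, b01, b02, b03, a11, c12, c13, NN x x hx, NN y y hy,
      NN x y hy, pol_comm y₁ x₂, pol_comm (nil g x) x₂, pol_comm (nil g y) x₂, pol_comm (nil g x) y₁,
      pol_comm (nil g y) y₁, pol_comm (nil g y) (nil g x)]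
  · intro j
    fin_cases j <;> simp [SA, Fin.sum_univ_four, act_eq_nil, n2, n3, hsq x hx, hsq y hy]

theorem exists_frame (h7 : Fintype.card ι = 7) (hne : g ≠ 1) :
    (∃ e, Frame g GA SA e) ∨ (∃ c : K3, c ≠ 0 ∧ ∃ e, Frame g (GB c) SB e) ∨
      (∃ c : K3, c ≠ 0 ∧ ∃ e, Frame g (GC c) SC e) ∨
      ∃ c d : K3, c ≠ 0 ∧ d ≠ 0 ∧ ∃ e, Frame g (GD c d) SD e := by
  by_cases hsq : ∀ x, nil g (nil g x) = 0
  · left
    obtain ⟨x, hx⟩ : ∃ x, nil g x ≠ 0 := by
      by_contra! h
      exact hne (QForm.isometry_ext Q fun x => by rw [QForm.act_one, act_eq_self (h x)])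
    obtain ⟨f, -, fg, fm⟩ := exists_pairBlock hg hQ (G := (0 : Matrix (Fin 0) (Fin 0) K3)) (S := 0)
      (e := Fin.elim0) (by simp) (fun i => i.elim0) (fun i => i.elim0) (fun x _ => hsq x) (Perp.empty _ x) hx
    refine ⟨f, fg, fm, fun z hz => ?_⟩
    by_contra hz'
    obtain ⟨f', fp, fg', -⟩ := exists_pairBlock hg hQ det_GA fg fm (fun x _ => hsq x) hz
      (fun h => hz' (act_eq_self h))
    have := card_add_le h7 det_GA fg (linearIndependent_of_gram det_GA fg') fp
    simp at this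
  right
  push Not at hsq
  obtain ⟨x, hx⟩ := hsq
  obtain ⟨c, hc, f, -, fg, fm⟩ := exists_block hg hQ (G := (0 : Matrix (Fin 0) (Fin 0) K3)) (S := 0)
      (e := Fin.elim0) (by simp) (fun i => i.elim0) (fun i => i.elim0) (Perp.empty _ x) hx
  by_cases hsq' : ∀ z, Perp Q f z → nil g (nil g z) = 0
  · by_cases hfix : ∀ z, Perp Q f z → nil g z = 0
    · exact Or.inl ⟨c, hc, f, fg, fm, fun z hz => act_eq_self (hfix z hz)⟩
    right; left
    push Not at hfix
    obtain ⟨z, hz, hz'⟩ := hfix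
    obtain ⟨p, pp, pg, pm⟩ := exists_pairBlock hg hQ (det_GB c hc) fg fm hsq' hz hz'
    set e : Fin 7 → ι → K3 := ![f 0, f 1, f 2, p 0, p 1, p 2, p 3] with he
    have fp : ∀ i j, pol Q (p j) (f i) = 0 := fun i j => by rw [pol_comm]; exact pp j i
    have eg : ∀ i j, pol Q (e i) (e j) = GC c i j := by
      have pp' : ∀ i j, pol Q (f i) (p j) = 0 := fun i j => pp j i
      intro i j
      fin_cases i <;> fin_cases j <;> simp [e, GC, GA, GB, fg, pg, fp, pp']
    refine ⟨c, hc, e, eg, ?_, fun w hw => ?_⟩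
    · intro j
      fin_cases j <;> simp [e, SC, SA, SB, fm, pm, Fin.sum_univ_three, Fin.sum_univ_four, Fin.sum_univ_seven]
    · by_contra hw'
      have := card_add_le h7 (det_GC c hc) eg (μ := Unit) (f := fun _ => w)
        (LinearIndependent.of_subsingleton () (fun h => hw' (by rw [h]; simp [act]))) (fun _ => hw)
      simp at this
  · right; right
    push Not at hsq'
    obtain ⟨z, hz, hz'⟩ := hsq'
    obtain ⟨d, hd, p, pp, pg, pm⟩ := exists_block hg hQ (det_GB c hc) fg fm hz hz'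
    set e : Fin 6 → ι → K3 := ![f 0, f 1, f 2, p 0, p 1, p 2] with he
    have fp : ∀ i j, pol Q (p j) (f i) = 0 := fun i j => by rw [pol_comm]; exact pp j i
    have eg : ∀ i j, pol Q (e i) (e j) = GD c d i j := by
      have pp' : ∀ i j, pol Q (f i) (p j) = 0 := fun i j => pp j i
      intro i j
      fin_cases i <;> fin_cases j <;> simp [e, GD, GB, fg, pg, fp, pp']
    have em : ∀ j, act Q g (e j) = ∑ i, SD i j • e i := by
      intro j
      fin_cases j <;> simp [e, SD, SB, fm, pm, Fin.sum_univ_three, Fin.sum_univ_six]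
    refine ⟨c, d, hc, hd, e, eg, em, fun w hw => ?_⟩
    have hsq2 : ∀ u, Perp Q e u → nil g (nil g u) = 0 := by
      intro u hu
      by_contra hu'
      obtain ⟨d', hd', f', fp', fg', -⟩ := exists_block hg hQ (det_GD c d hc hd) eg em hu hu'
      have := card_add_le h7 (det_GD c d hc hd) eg (linearIndependent_of_gram (det_GB d' hd') fg') fp'
      simp at this
    by_contra hw'
    obtain ⟨f', fp', fg', -⟩ := exists_pairBlock hg hQ (det_GD c d hc hd) eg em hsq2 hw
      (fun h => hw' (act_eq_self h))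
    have := card_add_le h7 (det_GD c d hc hd) eg (linearIndependent_of_gram det_GA fg') fp'
    simp at this

end Cfsg.Agent.UnipSeven
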