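import Mathlib
import Cfsg.Agent.Lib.QForm.Transitive

/-!
Frames of unipotent isometries of order three over the field with three elements: an isometry is described by a
family spanning a non-degenerate invariant subspace together with the condition that it fixes the orthogonal
complement pointwise. Two isometries with frames of the same shape are conjugate in the isometry group.
-/

set_option autoImplicit false
set_option linter.unusedSectionVars false

namespace Cfsg.Agent.UnipSeven

open scoped Matrix
open QForm (act)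

abbrev K3 := ZMod 3

variable {ι : Type} [Fintype ι] [DecidableEq ι] {Q : QuadraticForm K3 (ι → K3)}
variable {κ : Type} [Fintype κ] [DecidableEq κ]

/-- The polar form. -/
abbrev pol (Q : QuadraticForm K3 (ι → K3)) (x y : ι → K3) : K3 := QuadraticMap.polar ⇑Q x y

theorem pol_add_left (x y z : ι → K3) : pol Q (x + y) z = pol Q x z + pol Q y z :=
  QuadraticMap.polar_add_left Q x y z

theorem pol_add_right (x y z : ι → K3) : pol Q x (y + z) = pol Q x y + pol Q x z :=
  QuadraticMap.polar_add_right Q x y z

theorem pol_smul_left (a : K3) (x y : ι → K3) : pol Q (a • x) y = a * pol Q x y :=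
  QuadraticMap.polar_smul_left Q a x y

theorem pol_smul_right (a : K3) (x y : ι → K3) : pol Q x (a • y) = a * pol Q x y :=
  QuadraticMap.polar_smul_right Q a x y

theorem pol_sub_left (x y z : ι → K3) : pol Q (x - y) z = pol Q x z - pol Q y z :=
  QuadraticMap.polar_sub_left Q x y z

theorem pol_sub_right (x y z : ι → K3) : pol Q x (y - z) = pol Q x y - pol Q x z :=
  QuadraticMap.polar_sub_right Q x y z

theorem pol_comm (x y : ι → K3) : pol Q x y = pol Q y x := QuadraticMap.polar_comm _ x y

theorem pol_sum_smul_right (x : ι → K3) (a : κ → K3) (v : κ → ι → K3) :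
    pol Q x (∑ i, a i • v i) = ∑ i, a i * pol Q x (v i) := by
  rw [pol, ← QuadraticMap.polarBilin_apply_apply, map_sum]
  simp

theorem eval_eq (x : ι → K3) : Q x = -pol Q x x := by
  rw [pol, QuadraticMap.polar_self, nsmul_eq_mul]
  have : ((2 : ℕ) : K3) = -1 := by decide
  rw [this, neg_one_mul, neg_neg]

variable {g g' : ↥(isometryGroup K3 ⇑Q)}

theorem act_add (g : ↥(isometryGroup K3 ⇑Q)) (x y : ι → K3) : act Q g (x + y) = act Q g x + act Q g y :=
  Matrix.mulVec_add _ _ _

theorem act_smul (g : ↥(isometryGroup K3 ⇑Q)) (a : K3) (x : ι → K3) : act Q g (a • x) = a • act Q g x :=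
  Matrix.mulVec_smul _ _ _

theorem act_sub (g : ↥(isometryGroup K3 ⇑Q)) (x y : ι → K3) : act Q g (x - y) = act Q g x - act Q g y :=
  Matrix.mulVec_sub _ _ _

theorem act_sum_smul (g : ↥(isometryGroup K3 ⇑Q)) (a : κ → K3) (v : κ → ι → K3) :
    act Q g (∑ i, a i • v i) = ∑ i, a i • act Q g (v i) := by
  show ((g : Matrix.GeneralLinearGroup ι K3) : Matrix ι ι K3) *ᵥ _ = _
  rw [Matrix.mulVec_sum]
  exact Finset.sum_congr rfl fun i _ => act_smul g _ _

/-- `e` is a frame of shape `(G, S)` for `g`. -/
structure Frame (g : ↥(isometryGroup K3 ⇑Q)) (G S : Matrix κ κ K3) (e : κ → ι → K3) : Prop where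
  gram : ∀ i j, pol Q (e i) (e j) = G i j
  move : ∀ j, act Q g (e j) = ∑ i, S i j • e i
  rest : ∀ x, (∀ i, pol Q (e i) x = 0) → act Q g x = x

/-- Coefficients relative to a family with invertible Gram matrix. -/
theorem exists_split {G : Matrix κ κ K3} (hG : G.det ≠ 0) {e : κ → ι → K3}
    (hgram : ∀ i j, pol Q (e i) (e j) = G i j) (x : ι → K3) :
    ∃ a : κ → K3, ∀ i, pol Q (e i) (x - ∑ j, a j • e j) = 0 := by
  refine ⟨G⁻¹ *ᵥ fun i => pol Q (e i) x, fun i => ?_⟩
  have h : G *ᵥ (G⁻¹ *ᵥ fun i => pol Q (e i) x) = fun i => pol Q (e i) x := by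
    rw [Matrix.mulVec_mulVec, Matrix.mul_nonsing_inv _ (Ne.isUnit hG), Matrix.one_mulVec]
  rw [pol_sub_right, pol_sum_smul_right, sub_eq_zero]
  refine (congrFun h i).symm.trans ?_
  simp [Matrix.mulVec, dotProduct, hgram, mul_comm]

theorem linearIndependent_of_gram {G : Matrix κ κ K3} (hG : G.det ≠ 0) {e : κ → ι → K3}
    (hgram : ∀ i j, pol Q (e i) (e j) = G i j) : LinearIndependent K3 e := by
  rw [Fintype.linearIndependent_iff]
  intro a ha
  have h : G *ᵥ a = 0 := funext fun i => by
    have := congrArg (pol Q (e i)) ha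
    rw [pol_sum_smul_right, show pol Q (e i) (0 : ι → K3) = 0 from QuadraticMap.polar_zero_right Q _] at this
    refine (Finset.sum_congr rfl fun j _ => ?_).trans this
    rw [hgram, mul_comm]
  exact congrFun (Matrix.eq_zero_of_mulVec_eq_zero hG h)

/-- Isometries with frames of the same shape are conjugate, by an isometry carrying one frame to the other. -/
theorem Frame.conj (hQ : (QuadraticMap.polarBilin Q).Nondegenerate) {G S : Matrix κ κ K3} (hG : G.det ≠ 0)
    {e e' : κ → ι → K3} (h : Frame g G S e) (h' : Frame g' G S e') :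
    ∃ k : ↥(isometryGroup K3 ⇑Q), k * g * k⁻¹ = g' ∧ ∀ i, act Q k (e i) = e' i := by
  obtain ⟨k₀, hk₀, hk⟩ := Forms.witt_quadratic_tuple hQ (linearIndependent_of_gram hG h.gram)
    (linearIndependent_of_gram hG h'.gram)
    (fun i => by rw [eval_eq, eval_eq, h.gram, h'.gram])
    (fun i j => by
      rw [QuadraticMap.polarBilin_apply_apply, QuadraticMap.polarBilin_apply_apply]
      exact (h'.gram i j).trans (h.gram i j).symm)
  have happ : ∀ z, (((Forms.glEquiv ι K3).symm k₀ : Matrix.GeneralLinearGroup ι K3) : Matrix ι ι K3) *ᵥ z = k₀ z :=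
    fun z => by rw [← Forms.glEquiv_apply, MulEquiv.apply_symm_apply]
  let k : ↥(isometryGroup K3 ⇑Q) := ⟨(Forms.glEquiv ι K3).symm k₀, fun u _ => by
    show Q ((((Forms.glEquiv ι K3).symm k₀ : Matrix.GeneralLinearGroup ι K3) : Matrix ι ι K3) *ᵥ u) = Q u
    rw [happ]
    exact hk₀ u u⟩
  have hke : ∀ i, act Q k (e i) = e' i := fun i => (happ _).trans (hk i)
  have hinv : ∀ i, act Q k⁻¹ (e' i) = e i := fun i => by rw [← hke i, QForm.act_inv_act]
  refine ⟨k, QForm.isometry_ext Q fun x => ?_, hke⟩
  obtain ⟨a, ha⟩ := exists_split hG h'.gram x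
  set r := x - ∑ j, a j • e' j with hr
  have hx : x = (∑ j, a j • e' j) + r := by rw [hr]; abel
  have hrest : act Q g (act Q k⁻¹ r) = act Q k⁻¹ r := h.rest _ fun i => by
    rw [← hinv i, pol, QForm.act_polar]
    exact ha i
  rw [QForm.act_mul, QForm.act_mul, hx, act_add, act_add, act_add, act_add, hrest, QForm.act_act_inv,
    h'.rest r ha]
  congr 1
  simp only [act_sum_smul, hinv, h.move, hke, h'.move]

/-! ### The nilpotent part -/

/-- `g - 1`. -/
def nil (g : ↥(isometryGroup K3 ⇑Q)) (x : ι → K3) : ι → K3 := act Q g x - x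

theorem act_eq_nil (x : ι → K3) : act Q g x = x + nil g x := by rw [nil]; abel

theorem nil_add (x y : ι → K3) : nil g (x + y) = nil g x + nil g y := by
  simp only [nil, act_add]; abel

theorem nil_sub (x y : ι → K3) : nil g (x - y) = nil g x - nil g y := by
  simp only [nil, act_sub]; abel

theorem nil_smul (a : K3) (x : ι → K3) : nil g (a • x) = a • nil g x := by
  simp only [nil, act_smul, smul_sub]

theorem nil_zero : nil g (0 : ι → K3) = 0 := by
  simp [nil, act]

theorem three_smul_eq_zero (x : ι → K3) : x + x + x = 0 :=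
  funext fun i => (by decide : ∀ a : K3, a + a + a = 0) _

theorem two_smul_eq_neg (x : ι → K3) : x + x = -x :=
  eq_neg_of_add_eq_zero_left (three_smul_eq_zero x)

variable (hg : g ^ 3 = 1)

include hg in
theorem nil_cube (x : ι → K3) : nil g (nil g (nil g x)) = 0 := by
  have h : act Q g (act Q g (act Q g x)) = x := by
    rw [← QForm.act_mul, ← QForm.act_mul, ← pow_two, ← pow_succ, hg, QForm.act_one]
  simp only [nil, act_sub, h]
  funext i
  simp only [Pi.sub_apply, Pi.zero_apply]
  exact (by decide : ∀ a b c : K3, a - b - (b - c) - (b - c - (c - a)) = 0) _ _ _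

theorem pol_nil (x y : ι → K3) :
    pol Q (nil g x) y + pol Q x (nil g y) + pol Q (nil g x) (nil g y) = 0 := by
  have h := QForm.act_polar Q g x y
  rw [act_eq_nil x, act_eq_nil y] at h
  change pol Q (x + nil g x) (y + nil g y) = pol Q x y at h
  rw [pol_add_left, pol_add_right, pol_add_right] at h
  linear_combination h

include hg in
theorem adj_nil (x y : ι → K3) :
    pol Q (nil g x) y = -pol Q x (nil g y) + pol Q x (nil g (nil g y)) := by
  have h₁ := pol_nil (g := g) x y
  have h₂ := pol_nil (g := g) x (nil g y)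
  have h₃ := pol_nil (g := g) x (nil g (nil g y))
  have h0 : ∀ z, pol Q z (0 : ι → K3) = 0 := fun z => QuadraticMap.polar_zero_right Q z
  rw [nil_cube hg, h0, h0] at h₃
  linear_combination h₁ - h₂ + h₃

/-- `g` fixes the vectors orthogonal to a family as soon as `nil g` does, in the sense below. -/
theorem act_eq_self {x : ι → K3} (h : nil g x = 0) : act Q g x = x := sub_eq_zero.1 h

theorem gram_symm {G : Matrix κ κ K3} {e : κ → ι → K3} (hgram : ∀ i j, pol Q (e i) (e j) = G i j)
    (i j : κ) : G i j = G j i := by rw [← hgram, ← hgram, pol_comm]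

end Cfsg.Agent.UnipSeven
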