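import Cfsg.Agent.Lib.UnipSeven.Decompose

/-!
Predicates on an isometry of order three that depend only on the cyclic group it generates and are invariant under
conjugation, and their evaluation on frames.
-/

set_option autoImplicit false
set_option linter.unusedSectionVars false

namespace Cfsg.Agent.UnipSeven

open scoped Matrix
open QForm (act)

variable {ι : Type} [Fintype ι] [DecidableEq ι] {Q : QuadraticForm K3 (ι → K3)}
variable {κ : Type} [Fintype κ] [DecidableEq κ]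

/-- `B(x, N²x)` takes the value `c`. -/
def HasValue (g : ↥(isometryGroup K3 ⇑Q)) (c : K3) : Prop := ∃ x, pol Q x (nil g (nil g x)) = c

/-- The form `B(x, N²x)` has an isotropic vector outside its radical. -/
def HasIso (g : ↥(isometryGroup K3 ⇑Q)) : Prop :=
  ∃ x, pol Q x (nil g (nil g x)) = 0 ∧ nil g (nil g x) ≠ 0

/-- `B(x, Ny)` is non-zero on the kernel of `N²`. -/
def HasAlt (g : ↥(isometryGroup K3 ⇑Q)) : Prop :=
  ∃ x y, nil g (nil g x) = 0 ∧ nil g (nil g y) = 0 ∧ pol Q x (nil g y) ≠ 0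

/-- The invariant of a cyclic subgroup. -/
def inv4 (g : ↥(isometryGroup K3 ⇑Q)) : Prop × Prop × Prop × Prop :=
  (HasValue g 1, HasValue g 2, HasIso g, HasAlt g)

variable {g : ↥(isometryGroup K3 ⇑Q)}

theorem nil_conj (k : ↥(isometryGroup K3 ⇑Q)) (x : ι → K3) :
    nil (k * g * k⁻¹) (act Q k x) = act Q k (nil g x) := by
  simp only [nil, QForm.act_mul, QForm.act_inv_act, act_sub]

theorem act_zero' (k : ↥(isometryGroup K3 ⇑Q)) : act Q k 0 = 0 := Matrix.mulVec_zero _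

theorem hasValue_conj (k : ↥(isometryGroup K3 ⇑Q)) {c : K3} (h : HasValue g c) :
    HasValue (k * g * k⁻¹) c := by
  obtain ⟨x, hx⟩ := h
  exact ⟨act Q k x, by rw [nil_conj, nil_conj, pol, QForm.act_polar]; exact hx⟩

theorem hasIso_conj (k : ↥(isometryGroup K3 ⇑Q)) (h : HasIso g) : HasIso (k * g * k⁻¹) := by
  obtain ⟨x, hx, hx'⟩ := h
  refine ⟨act Q k x, by rw [nil_conj, nil_conj, pol, QForm.act_polar]; exact hx, fun h0 => hx' ?_⟩
  rw [nil_conj, nil_conj] at h0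
  exact QForm.act_injective k (h0.trans (act_zero' k).symm)

theorem hasAlt_conj (k : ↥(isometryGroup K3 ⇑Q)) (h : HasAlt g) : HasAlt (k * g * k⁻¹) := by
  obtain ⟨x, y, hx, hy, hxy⟩ := h
  refine ⟨act Q k x, act Q k y, by rw [nil_conj, nil_conj, hx, act_zero'],
    by rw [nil_conj, nil_conj, hy, act_zero'], ?_⟩
  rw [nil_conj, pol, QForm.act_polar]
  exact hxy

theorem inv4_conj (k : ↥(isometryGroup K3 ⇑Q)) : inv4 (k * g * k⁻¹) = inv4 g := by
  have e : k⁻¹ * (k * g * k⁻¹) * k⁻¹⁻¹ = g := by group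
  have h1 : ∀ c, HasValue (k * g * k⁻¹) c ↔ HasValue g c := fun c =>
    ⟨fun h => e ▸ hasValue_conj k⁻¹ h, hasValue_conj k⟩
  have h2 : HasIso (k * g * k⁻¹) ↔ HasIso g := ⟨fun h => e ▸ hasIso_conj k⁻¹ h, hasIso_conj k⟩
  have h3 : HasAlt (k * g * k⁻¹) ↔ HasAlt g := ⟨fun h => e ▸ hasAlt_conj k⁻¹ h, hasAlt_conj k⟩
  simp only [inv4, h1, h2, h3]

theorem nil_inv (hg : g ^ 3 = 1) (x : ι → K3) : nil g⁻¹ x = -nil g x + nil g (nil g x) := by
  have h : g⁻¹ = g * g := by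
    rw [inv_eq_iff_mul_eq_one, ← mul_assoc, ← pow_two, ← pow_succ, hg]
  rw [h, nil, QForm.act_mul]
  simp only [nil, act_sub]
  funext i
  simp only [Pi.sub_apply, Pi.add_apply, Pi.neg_apply]
  exact (by decide : ∀ a b c : K3, a - b = -(c - b) + (a - c - (c - b))) _ _ _

theorem nil_neg (x : ι → K3) : nil g (-x) = -nil g x := by
  rw [← neg_one_smul K3 x, nil_smul, neg_one_smul]

theorem nil_nil_inv (hg : g ^ 3 = 1) (x : ι → K3) : nil g⁻¹ (nil g⁻¹ x) = nil g (nil g x) := by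
  rw [nil_inv hg (nil g⁻¹ x), nil_inv hg x]
  simp only [nil_add, nil_neg, nil_cube hg, neg_zero, add_zero, neg_neg]

theorem inv4_inv (hg : g ^ 3 = 1) : inv4 g⁻¹ = inv4 g := by
  have h : HasAlt g⁻¹ ↔ HasAlt g := by
    simp only [HasAlt, nil_nil_inv hg]
    refine exists_congr fun x => exists_congr fun y => and_congr_right fun hx => and_congr_right fun hy => ?_
    rw [nil_inv hg, hy, add_zero, ← neg_one_smul K3 (nil g y), pol_smul_right]
    simp
  simp only [inv4, HasValue, HasIso, h, nil_nil_inv hg]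

/-! ### On frames -/

/-- The combination of a family with given coefficients. -/
def comb (e : κ → ι → K3) (a : κ → K3) : ι → K3 := ∑ i, a i • e i

theorem pol_comb {G : Matrix κ κ K3} {e : κ → ι → K3} (hgram : ∀ i j, pol Q (e i) (e j) = G i j)
    (a b : κ → K3) : pol Q (comb e a) (comb e b) = a ⬝ᵥ G *ᵥ b := by
  rw [comb, comb, pol_sum_smul_right]
  simp only [dotProduct, Matrix.mulVec, Finset.mul_sum]
  rw [Finset.sum_comm]
  refine Finset.sum_congr rfl fun j _ => ?_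
  rw [pol_comm, pol_sum_smul_right, Finset.mul_sum]
  refine Finset.sum_congr rfl fun i _ => ?_
  rw [pol_comm, hgram]
  ring

theorem comb_eq_zero {G : Matrix κ κ K3} (hG : G.det ≠ 0) {e : κ → ι → K3}
    (hgram : ∀ i j, pol Q (e i) (e j) = G i j) {a : κ → K3} (h : comb e a = 0) : a = 0 :=
  funext (Fintype.linearIndependent_iff.1 (linearIndependent_of_gram hG hgram) a h)

theorem nil_comb {S : Matrix κ κ K3} {e : κ → ι → K3} (hmove : ∀ j, act Q g (e j) = ∑ i, S i j • e i)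
    (a : κ → K3) : nil g (comb e a) = comb e ((S - 1) *ᵥ a) := by
  rw [nil, comb, act_sum_smul, Matrix.sub_mulVec, Matrix.one_mulVec]
  simp only [comb, hmove, Matrix.mulVec, dotProduct, Pi.sub_apply, sub_smul, Finset.sum_sub_distrib,
    Finset.sum_smul, Finset.smul_sum, smul_smul]
  rw [Finset.sum_comm]
  congr 1
  exact Finset.sum_congr rfl fun i _ => Finset.sum_congr rfl fun j _ => by rw [mul_comm]

/-- On a frame every vector acts as a combination of the frame. -/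
theorem Frame.exists_coeff {G S : Matrix κ κ K3} (hG : G.det ≠ 0) {e : κ → ι → K3} (h : Frame g G S e)
    (x : ι → K3) : ∃ a : κ → K3, nil g x = comb e ((S - 1) *ᵥ a) ∧
      nil g (nil g x) = comb e ((S - 1) *ᵥ ((S - 1) *ᵥ a)) ∧
      ∀ b : κ → K3, pol Q x (comb e b) = a ⬝ᵥ G *ᵥ b := by
  obtain ⟨a, ha⟩ := exists_split hG h.gram x
  have hx : x = comb e a + (x - comb e a) := by abel
  have hr : nil g (x - comb e a) = 0 := sub_eq_zero.2 (h.rest _ ha)
  have hn : nil g x = comb e ((S - 1) *ᵥ a) := by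
    conv_lhs => rw [hx, nil_add, hr, add_zero, nil_comb h.move]
  refine ⟨a, hn, by rw [hn, nil_comb h.move], fun b => ?_⟩
  conv_lhs => rw [hx, pol_add_left]
  rw [pol_comb h.gram]
  rw [show pol Q (x - comb e a) (comb e b) = 0 from ?_, add_zero]
  rw [show comb e b = ∑ i, b i • e i from rfl, pol_sum_smul_right]
  exact Finset.sum_eq_zero fun i _ => by rw [pol_comm]; exact mul_eq_zero_of_right _ (ha i)

theorem Frame.hasValue_iff {G S : Matrix κ κ K3} (hG : G.det ≠ 0) {e : κ → ι → K3} (h : Frame g G S e)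
    (c : K3) : HasValue g c ↔ ∃ a : κ → K3, a ⬝ᵥ G *ᵥ ((S - 1) *ᵥ ((S - 1) *ᵥ a)) = c := by
  constructor
  · rintro ⟨x, hx⟩
    obtain ⟨a, -, h2, h3⟩ := h.exists_coeff hG x
    exact ⟨a, by rw [← h3, ← h2]; exact hx⟩
  · rintro ⟨a, ha⟩
    exact ⟨comb e a, by rw [nil_comb h.move, nil_comb h.move, pol_comb h.gram]; exact ha⟩

theorem Frame.hasIso_iff {G S : Matrix κ κ K3} (hG : G.det ≠ 0) {e : κ → ι → K3} (h : Frame g G S e) :
    HasIso g ↔ ∃ a : κ → K3, a ⬝ᵥ G *ᵥ ((S - 1) *ᵥ ((S - 1) *ᵥ a)) = 0 ∧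
      (S - 1) *ᵥ ((S - 1) *ᵥ a) ≠ 0 := by
  constructor
  · rintro ⟨x, hx, hx'⟩
    obtain ⟨a, -, h2, h3⟩ := h.exists_coeff hG x
    refine ⟨a, by rw [← h3, ← h2]; exact hx, fun h0 => hx' ?_⟩
    rw [h2, h0]
    simp [comb]
  · rintro ⟨a, ha, ha'⟩
    refine ⟨comb e a, by rw [nil_comb h.move, nil_comb h.move, pol_comb h.gram]; exact ha, fun h0 => ha' ?_⟩
    rw [nil_comb h.move, nil_comb h.move] at h0
    exact comb_eq_zero hG h.gram h0

theorem Frame.hasAlt_iff {G S : Matrix κ κ K3} (hG : G.det ≠ 0) {e : κ → ι → K3} (h : Frame g G S e) :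
    HasAlt g ↔ ∃ a b : κ → K3, (S - 1) *ᵥ ((S - 1) *ᵥ a) = 0 ∧ (S - 1) *ᵥ ((S - 1) *ᵥ b) = 0 ∧
      a ⬝ᵥ G *ᵥ ((S - 1) *ᵥ b) ≠ 0 := by
  constructor
  · rintro ⟨x, y, hx, hy, hxy⟩
    obtain ⟨a, -, a2, a3⟩ := h.exists_coeff hG x
    obtain ⟨b, b1, b2, -⟩ := h.exists_coeff hG y
    exact ⟨a, b, comb_eq_zero hG h.gram (a2 ▸ hx), comb_eq_zero hG h.gram (b2 ▸ hy),
      by rw [← a3, ← b1]; exact hxy⟩
  · rintro ⟨a, b, ha, hb, hab⟩
    refine ⟨comb e a, comb e b, ?_, ?_, ?_⟩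
    · rw [nil_comb h.move, nil_comb h.move, ha]; simp [comb]
    · rw [nil_comb h.move, nil_comb h.move, hb]; simp [comb]
    · rw [nil_comb h.move, pol_comb h.gram]; exact hab

/-! ### The five shapes -/

theorem mulVec2_apply {n : Type} [Fintype n] [DecidableEq n] (G S : Matrix n n K3) (a : n → K3) :
    G *ᵥ ((S - 1) *ᵥ ((S - 1) *ᵥ a)) = (G * ((S - 1) * (S - 1))) *ᵥ a := by
  rw [Matrix.mulVec_mulVec, Matrix.mulVec_mulVec]
  simp only [Matrix.mul_assoc]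

theorem sq_SA : (SA - 1) * (SA - 1) = 0 := by decide +kernel

theorem form_GB : ∀ c : K3, GB c * ((SB - 1) * (SB - 1)) = Matrix.single 0 0 c := by decide +kernel

theorem form_GC : ∀ c : K3, GC c * ((SC - 1) * (SC - 1)) = Matrix.single 0 0 c := by decide +kernel

theorem form_GD : ∀ c d : K3, GD c d * ((SD - 1) * (SD - 1)) = Matrix.single 0 0 c + Matrix.single 3 3 d := by
  decide +kernel

theorem dot_single {n : Type} [Fintype n] [DecidableEq n] (i : n) (c : K3) (a : n → K3) :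
    a ⬝ᵥ Matrix.single i i c *ᵥ a = c * (a i * a i) := by
  rw [Matrix.single_mulVec, show (Function.update (0 : n → K3) i (c * a i)) = Pi.single i (c * a i) from rfl,
    dotProduct_single]
  ring

theorem frameA_inv {e : Fin 4 → ι → K3} (h : Frame g GA SA e) :
    ¬ HasValue g 1 ∧ ¬ HasValue g 2 := by
  constructor <;>
  · rw [h.hasValue_iff det_GA]
    rintro ⟨a, ha⟩
    rw [mulVec2_apply, sq_SA, Matrix.mul_zero, Matrix.zero_mulVec, dotProduct_zero] at ha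
    revert ha
    decide

theorem frameB_inv {c : K3} (hc : c ≠ 0) {e : Fin 3 → ι → K3} (h : Frame g (GB c) SB e) :
    HasValue g c ∧ (∀ d, d ≠ 0 → d ≠ c → ¬ HasValue g d) ∧ ¬ HasAlt g := by
  refine ⟨?_, fun d hd hdc => ?_, ?_⟩
  · rw [h.hasValue_iff (det_GB c hc)]
    exact ⟨Pi.single 0 1, by rw [mulVec2_apply, form_GB, dot_single]; simp⟩
  · rw [h.hasValue_iff (det_GB c hc)]
    rintro ⟨a, ha⟩
    rw [mulVec2_apply, form_GB, dot_single] at ha
    exact (by decide : ∀ c d b : K3, c ≠ 0 → d ≠ 0 → d ≠ c → c * (b * b) ≠ d) _ _ _ hc hd hdc ha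
  · rw [h.hasAlt_iff (det_GB c hc)]
    rintro ⟨a, b, ha, hb, hab⟩
    rw [Matrix.mulVec_mulVec] at ha hb
    have key : ∀ (c : K3) (a b : Fin 3 → K3), ((SB - 1) * (SB - 1)) *ᵥ a = 0 →
        ((SB - 1) * (SB - 1)) *ᵥ b = 0 → a ⬝ᵥ GB c *ᵥ ((SB - 1) *ᵥ b) = 0 := by
      decide +kernel
    exact hab (key c a b ha hb)

theorem frameC_inv {c : K3} (hc : c ≠ 0) {e : Fin 7 → ι → K3} (h : Frame g (GC c) SC e) :
    HasValue g c ∧ (∀ d, d ≠ 0 → d ≠ c → ¬ HasValue g d) ∧ HasAlt g := by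
  refine ⟨?_, fun d hd hdc => ?_, ?_⟩
  · rw [h.hasValue_iff (det_GC c hc)]
    exact ⟨Pi.single 0 1, by rw [mulVec2_apply, form_GC, dot_single]; simp⟩
  · rw [h.hasValue_iff (det_GC c hc)]
    rintro ⟨a, ha⟩
    rw [mulVec2_apply, form_GC, dot_single] at ha
    exact (by decide : ∀ c d b : K3, c ≠ 0 → d ≠ 0 → d ≠ c → c * (b * b) ≠ d) _ _ _ hc hd hdc ha
  · rw [h.hasAlt_iff (det_GC c hc)]
    have key : ∀ c : K3, (SC - 1) *ᵥ ((SC - 1) *ᵥ Pi.single 3 1) = 0 ∧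
        (SC - 1) *ᵥ ((SC - 1) *ᵥ Pi.single 4 1) = 0 ∧
        Pi.single 3 1 ⬝ᵥ GC c *ᵥ ((SC - 1) *ᵥ Pi.single 4 1) ≠ 0 := by decide +kernel
    exact ⟨_, _, key c⟩

theorem frameD_inv {c d : K3} (hc : c ≠ 0) (hd : d ≠ 0) {e : Fin 6 → ι → K3}
    (h : Frame g (GD c d) SD e) : HasValue g 1 ∧ HasValue g 2 ∧ (HasIso g ↔ d ≠ c) := by
  have hform : ∀ a : Fin 6 → K3, a ⬝ᵥ GD c d *ᵥ ((SD - 1) *ᵥ ((SD - 1) *ᵥ a)) =
      c * (a 0 * a 0) + d * (a 3 * a 3) := fun a => by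
    rw [mulVec2_apply, form_GD, Matrix.add_mulVec, dotProduct_add, dot_single, dot_single]
  have hval : ∀ v : K3, v ≠ 0 → HasValue g v := by
    intro v hv
    rw [h.hasValue_iff (det_GD c d hc hd)]
    have key : ∀ c d v : K3, c ≠ 0 → d ≠ 0 → ∃ p q : K3, c * (p * p) + d * (q * q) = v := by decide
    obtain ⟨p, q, hpq⟩ := key c d v hc hd
    exact ⟨![p, 0, 0, q, 0, 0], by rw [hform]; exact hpq⟩
  refine ⟨hval 1 (by decide), hval 2 (by decide), ?_⟩
  rw [h.hasIso_iff (det_GD c d hc hd)]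
  constructor
  · rintro ⟨a, ha, ha'⟩ rfl
    rw [hform] at ha
    have key : ∀ c p q : K3, c ≠ 0 → c * (p * p) + c * (q * q) = 0 → p = 0 ∧ q = 0 := by decide
    obtain ⟨h0, h3⟩ := key _ _ _ hc ha
    refine ha' (funext fun i => ?_)
    fin_cases i <;> simp [SD, Matrix.mulVec, dotProduct, Fin.sum_univ_six, h0, h3]
  · intro hdc
    refine ⟨![1, 0, 0, 1, 0, 0], ?_, by decide +kernel⟩
    rw [hform]
    show c * (1 * 1) + d * (1 * 1) = 0
    exact (by decide : ∀ c d : K3, c ≠ 0 → d ≠ 0 → d ≠ c → c * (1 * 1) + d * (1 * 1) = 0) _ _ hc hd hdc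

end Cfsg.Agent.UnipSeven
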