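import Cfsg.Agent.Lib.UnipSeven.Invariant
import Cfsg.Agent.Lib.QForm.OmegaQuot
import Cfsg.Agent.Lib.Forms.Quad

/-!
The seven-dimensional form over the field with three elements: representatives of the classes of order three,
spinor signs, and elements of negative sign in centralisers.
-/

set_option autoImplicit false
set_option linter.unusedSectionVars false

namespace Cfsg.Agent.UnipSeven

open scoped Matrix
open QForm (act refl sphereSign)

/-- The index type of the seven coordinates. -/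
abbrev I7 := Unit ⊕ (Fin 3 ⊕ Fin 3)

/-- The quadratic form. -/
noncomputable abbrev Q7 : QuadraticForm K3 (I7 → K3) := Forms.quadOdd 3 K3

/-- The orthogonal group. -/
abbrev O7 := ↥(isometryGroup K3 ⇑Q7)

theorem nondeg : (QuadraticMap.polarBilin Q7).Nondegenerate :=
  Forms.quadOdd_nondegenerate (by decide) 3

theorem card_I7 : Fintype.card I7 = 7 := rfl

/-- Position of a coordinate. -/
def idx : I7 → Fin 7 :=
  Sum.elim (fun _ => 0) (Sum.elim ![1, 2, 3] ![4, 5, 6])

/-- A vector given by its seven coordinates `x₀, x₁, x₂, x₃, y₁, y₂, y₃`. -/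
def vec (l : Fin 7 → K3) : I7 → K3 := fun p => l (idx p)

/-- The polar matrix. -/
def B7 : Matrix I7 I7 K3 := fun p q =>
  (![![2, 0, 0, 0, 0, 0, 0], ![0, 0, 0, 0, 1, 0, 0], ![0, 0, 0, 0, 0, 1, 0], ![0, 0, 0, 0, 0, 0, 1],
     ![0, 1, 0, 0, 0, 0, 0], ![0, 0, 1, 0, 0, 0, 0], ![0, 0, 0, 1, 0, 0, 0]] : Fin 7 → Fin 7 → K3) (idx p) (idx q)

theorem pol_eq (x y : I7 → K3) : pol Q7 x y = x ⬝ᵥ B7 *ᵥ y := by
  rw [pol, QuadraticMap.polar, Forms.quadOdd_apply, Forms.quadOdd_apply, Forms.quadOdd_apply]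
  simp [quadFormOdd, dotProduct, Matrix.mulVec, B7, idx, Fin.sum_univ_three, Fintype.sum_sum_type]
  ring

theorem q7_eq (x : I7 → K3) : Q7 x = -(x ⬝ᵥ B7 *ᵥ x) := by rw [eval_eq, pol_eq]

theorem dot_mulVec_mulVec {m n : Type} [Fintype m] [Fintype n] (A : Matrix m n K3) (B : Matrix m m K3)
    (x y : n → K3) : (A *ᵥ x) ⬝ᵥ B *ᵥ (A *ᵥ y) = x ⬝ᵥ (Aᵀ * B * A) *ᵥ y := by
  rw [← Matrix.mulVec_mulVec, ← Matrix.mulVec_mulVec, Matrix.dotProduct_mulVec x Aᵀ, Matrix.vecMul_transpose]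

/-- An isometry of order dividing three from a matrix. -/
noncomputable def mk3 (M : Matrix I7 I7 K3) (h : Mᵀ * B7 * M = B7) (h3 : M * (M * M) = 1) : O7 :=
  ⟨⟨M, M * M, h3, by rw [Matrix.mul_assoc]; exact h3⟩, fun u _ => by
    show Q7 (M *ᵥ u) = Q7 u
    rw [q7_eq, q7_eq, dot_mulVec_mulVec, h]⟩

theorem mk3_cube (M : Matrix I7 I7 K3) (h : Mᵀ * B7 * M = B7) (h3 : M * (M * M) = 1) :
    mk3 M h h3 ^ 3 = 1 :=
  Subtype.ext (Units.ext (by
    simp only [pow_succ, pow_zero, one_mul]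
    show M * M * M = 1
    rw [Matrix.mul_assoc]; exact h3))

/-- The matrix fixing the orthogonal complement of the columns of `E` and acting by `S` on them. -/
def repMat {n : Type} [Fintype n] [DecidableEq n] (E : Matrix I7 n K3) (S G' : Matrix n n K3) : Matrix I7 I7 K3 :=
  1 + E * (S - 1) * G' * (Eᵀ * B7)

theorem frame_mk3 {n : Type} [Fintype n] [DecidableEq n] {E : Matrix I7 n K3} {G S G' : Matrix n n K3}
    {M : Matrix I7 I7 K3} (hM : M = repMat E S G') (h : Mᵀ * B7 * M = B7) (h3 : M * (M * M) = 1)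
    (hgram : Eᵀ * B7 * E = G) (hmove : M * E = E * S) : Frame (mk3 M h h3) G S fun i p => E p i := by
  refine ⟨fun i j => ?_, fun j => ?_, fun x hx => ?_⟩
  · rw [pol_eq, ← hgram]
    rw [Matrix.mul_assoc, Matrix.mul_apply']
    rfl
  · funext p
    show (M *ᵥ fun q => E q j) p = _
    rw [show (M *ᵥ fun q => E q j) p = (M * E) p j from rfl, hmove]
    simp [Matrix.mul_apply, mul_comm]
  · show M *ᵥ x = x
    have h0 : (Eᵀ * B7) *ᵥ x = 0 := funext fun i => by
      rw [← Matrix.mulVec_mulVec]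
      exact (pol_eq (fun p => E p i) x).symm.trans (hx i)
    rw [hM, repMat, Matrix.add_mulVec, Matrix.one_mulVec, ← Matrix.mulVec_mulVec, h0, Matrix.mulVec_zero,
      add_zero]

end Cfsg.Agent.UnipSeven
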