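import Cfsg.Agent.Lib.UnipSeven.Reps

/-!
Spinor signs in the centralisers of the representatives: for five classes the centraliser contains an element of
negative sign; for the class with blocks `3, 2, 2` it does not, and it has an inverting element of positive sign.
-/

set_option autoImplicit false
set_option linter.unusedSectionVars false

namespace Cfsg.Agent.UnipSeven

open scoped Matrix
open QForm (act refl sphereSign)

/-- The spinor sign. -/
noncomputable abbrev sgn7 : O7 →* ℤˣ := sphereSign Q7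

/-- The matrix of a reflection. -/
def refMat (v : I7 → K3) : Matrix I7 I7 K3 :=
  1 - (-(v ⬝ᵥ B7 *ᵥ v)) • Matrix.vecMulVec v (B7 *ᵥ v)

theorem matrix_refl (v : I7 → K3) (hv : Q7 v ≠ 0) :
    ((refl Q7 v hv : O7).1 : Matrix I7 I7 K3) = refMat v := by
  refine Matrix.ext_iff_mulVec.2 fun x => ?_
  refine (QForm.act_refl Q7 v hv x).trans ?_
  have hinv : (Q7 v)⁻¹ = -(v ⬝ᵥ B7 *ᵥ v) := by
    rw [← q7_eq]
    exact (by decide +kernel : ∀ a : K3, a⁻¹ = a) _
  rw [refMat, Matrix.sub_mulVec, Matrix.one_mulVec, Matrix.smul_mulVec, Matrix.vecMulVec_mulVec, op_smul_eq_smul,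
    smul_smul, hinv]
  congr 3
  show pol Q7 v x = _
  rw [pol_comm, pol_eq, dotProduct_comm]

theorem sgn_refl_one (v : I7 → K3) (hv : Q7 v ≠ 0) (h : Q7 v = 1) : sgn7 (refl Q7 v hv) = -1 := by
  refine Units.ext ?_
  rw [QForm.sphereSign_refl Q7 (by decide) v hv, h, map_one]
  rfl

theorem sgn_refl_two (v : I7 → K3) (hv : Q7 v ≠ 0) (h : Q7 v = 2) : sgn7 (refl Q7 v hv) = 1 := by
  refine Units.ext ?_
  rw [QForm.sphereSign_refl Q7 (by decide) v hv, h,
    show quadraticChar K3 2 = -1 from by decide]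
  rfl

theorem q_vec {v : I7 → K3} {c : K3} (h : -(v ⬝ᵥ B7 *ᵥ v) = c) : Q7 v = c := (q7_eq v).trans h

theorem q_ne {v : I7 → K3} {c : K3} (h : -(v ⬝ᵥ B7 *ᵥ v) = c) (hc : c ≠ 0) : Q7 v ≠ 0 := by
  rw [q_vec h]; exact hc

/-- A reflection in a fixed vector of norm one commutes and has negative sign. -/
theorem exists_of_fixed {M : Matrix I7 I7 K3} {h : Mᵀ * B7 * M = B7} {h3 : M * (M * M) = 1} (v : I7 → K3)
    (hq : -(v ⬝ᵥ B7 *ᵥ v) = 1) (hv : M *ᵥ v = v) :
    ∃ z : O7, Commute z (mk3 M h h3) ∧ sgn7 z = -1 := by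
  have hv0 : Q7 v ≠ 0 := q_ne hq one_ne_zero
  refine ⟨refl Q7 v hv0, ?_, sgn_refl_one v hv0 (q_vec hq)⟩
  have hw : act Q7 (mk3 M h h3) v = (1 : K3) • v := by rw [one_smul]; exact hv
  have e := (QForm.conj_refl Q7 (mk3 M h h3) v hv0).trans
    (QForm.refl_congr Q7 hv0 (by rwa [QForm.act_map]) hw)
  exact (mul_inv_eq_iff_eq_mul.1 e).symm

theorem negA : ∃ z : O7, Commute z gA ∧ sgn7 z = -1 :=
  exists_of_fixed (vec ![1, 0, 0, 0, 0, 0, 0]) (by decide +kernel) (by decide +kernel)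

theorem negB1 : ∃ z : O7, Commute z gB1 ∧ sgn7 z = -1 :=
  exists_of_fixed (vec ![0, 1, 0, 0, 1, 0, 0]) (by decide +kernel) (by decide +kernel)

theorem negB2 : ∃ z : O7, Commute z gB2 ∧ sgn7 z = -1 :=
  exists_of_fixed (vec ![1, 0, 0, 0, 0, 0, 0]) (by decide +kernel) (by decide +kernel)

theorem negD2 : ∃ z : O7, Commute z gD2 ∧ sgn7 z = -1 :=
  exists_of_fixed (vec ![0, 1, 0, 0, 1, 0, 0]) (by decide +kernel) (by decide +kernel)

/-- A product of three reflections, with its matrix. -/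
theorem exists_three (u v w : I7 → K3) {a b c : K3} (hu : -(u ⬝ᵥ B7 *ᵥ u) = a) (hv : -(v ⬝ᵥ B7 *ᵥ v) = b)
    (hw : -(w ⬝ᵥ B7 *ᵥ w) = c) (ha : a ≠ 0) (hb : b ≠ 0) (hc : c ≠ 0) :
    ∃ z : O7, (z.1 : Matrix I7 I7 K3) = refMat u * (refMat v * refMat w) ∧
      z = refl Q7 u (q_ne hu ha) * (refl Q7 v (q_ne hv hb) * refl Q7 w (q_ne hw hc)) := by
  refine ⟨_, ?_, rfl⟩
  show ((refl Q7 u _).1 : Matrix I7 I7 K3) *
    (((refl Q7 v _).1 : Matrix I7 I7 K3) * ((refl Q7 w _).1 : Matrix I7 I7 K3)) = _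
  rw [matrix_refl, matrix_refl, matrix_refl]

theorem negD1 : ∃ z : O7, Commute z gD1 ∧ sgn7 z = -1 := by
  obtain ⟨z, hz, hz'⟩ := exists_three (vec ![1, 2, 0, 0, 2, 0, 0]) (vec ![0, 0, 2, 1, 0, 2, 1])
    (vec ![0, 0, 2, 1, 0, 1, 2]) (a := 2) (b := 2) (c := 1) (by decide +kernel) (by decide +kernel)
    (by decide +kernel) (by decide) (by decide) (by decide)
  refine ⟨z, Subtype.ext (Units.ext ?_), ?_⟩
  · show (z.1 : Matrix I7 I7 K3) * MD1 = MD1 * (z.1 : Matrix I7 I7 K3)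
    rw [hz]
    decide +kernel
  · rw [hz', map_mul, map_mul, sgn_refl_two _ _ (q_vec (by decide +kernel)),
      sgn_refl_two _ _ (q_vec (by decide +kernel)), sgn_refl_one _ _ (q_vec (by decide +kernel))]
    rfl

theorem invC : ∃ k : O7, k * gC * k⁻¹ = gC⁻¹ ∧ sgn7 k = 1 := by
  obtain ⟨z, hz, hz'⟩ := exists_three (vec ![1, 0, 0, 0, 0, 0, 0]) (vec ![0, 0, 1, 0, 0, 1, 0])
    (vec ![0, 0, 1, 0, 0, 2, 0]) (a := 1) (b := 1) (c := 2) (by decide +kernel) (by decide +kernel)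
    (by decide +kernel) (by decide) (by decide) (by decide)
  refine ⟨z, ?_, ?_⟩
  · rw [mul_inv_eq_iff_eq_mul, eq_inv_mul_iff_mul_eq]
    refine Subtype.ext (Units.ext ?_)
    show MC * ((z.1 : Matrix I7 I7 K3) * MC) = (z.1 : Matrix I7 I7 K3)
    rw [hz]
    decide +kernel
  · rw [hz', map_mul, map_mul, sgn_refl_one _ _ (q_vec (by decide +kernel)),
      sgn_refl_one _ _ (q_vec (by decide +kernel)), sgn_refl_two _ _ (q_vec (by decide +kernel))]
    rfl

/-- An element of negative sign. -/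
noncomputable def flip7 : O7 :=
  refl Q7 (vec ![1, 0, 0, 0, 0, 0, 0]) (q_ne (c := 1) (by decide +kernel) one_ne_zero)

theorem sgn_flip7 : sgn7 flip7 = -1 := sgn_refl_one _ _ (q_vec (by decide +kernel))

/-- `-1`. -/
theorem exists_neg_one : ∃ z : O7, (z.1 : Matrix I7 I7 K3) = -1 ∧ sgn7 z = 1 := by
  obtain ⟨a, ha, ha'⟩ := exists_three (vec ![1, 0, 0, 0, 0, 0, 0]) (vec ![0, 1, 0, 0, 1, 0, 0])
    (vec ![0, 1, 0, 0, 2, 0, 0]) (a := 1) (b := 1) (c := 2) (by decide +kernel) (by decide +kernel)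
    (by decide +kernel) (by decide) (by decide) (by decide)
  obtain ⟨b, hb, hb'⟩ := exists_three (vec ![0, 0, 1, 0, 0, 1, 0]) (vec ![0, 0, 1, 0, 0, 2, 0])
    (vec ![0, 0, 0, 1, 0, 0, 1]) (a := 1) (b := 2) (c := 1) (by decide +kernel) (by decide +kernel)
    (by decide +kernel) (by decide) (by decide) (by decide)
  have hc : Q7 (vec ![0, 0, 0, 1, 0, 0, 2]) ≠ 0 := q_ne (c := 2) (by decide +kernel) (by decide)
  refine ⟨a * b * refl Q7 _ hc, ?_, ?_⟩
  · show (a.1 : Matrix I7 I7 K3) * (b.1 : Matrix I7 I7 K3) * ((refl Q7 _ hc).1 : Matrix I7 I7 K3) = -1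
    rw [ha, hb, matrix_refl]
    decide +kernel
  · rw [ha', hb']
    simp only [map_mul]
    rw [sgn_refl_one _ _ (q_vec (by decide +kernel)), sgn_refl_one _ _ (q_vec (by decide +kernel)),
      sgn_refl_two _ _ (q_vec (by decide +kernel)), sgn_refl_one _ _ (q_vec (by decide +kernel)),
      sgn_refl_two _ _ (q_vec (by decide +kernel)), sgn_refl_one _ _ (q_vec (by decide +kernel)),
      sgn_refl_two _ _ (q_vec (by decide +kernel))]
    rfl

end Cfsg.Agent.UnipSeven
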