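import Cfsg.Agent.Lib.UnipSeven.Classes
import Cfsg.Agent.Lib.QForm.OmegaOddInvolution

/-!
The seven classes of subgroups of order three of the seven-dimensional simple group over the field with three elements.
-/

set_option autoImplicit false
set_option linter.unusedSectionVars false
set_option maxHeartbeats 400000

namespace Cfsg.Agent.UnipSeven

theorem ne_one_of_matrix {g : O7} (h : (g.1 : Matrix I7 I7 K3) ≠ 1) : g ≠ 1 := by
  rintro rfl
  exact h rfl

theorem matrices_ne_one : MA ≠ 1 ∧ MB1 ≠ 1 ∧ MB2 ≠ 1 ∧ MD1 ≠ 1 ∧ MD2 ≠ 1 ∧ MC ≠ 1 := by decide +kernel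

theorem rep_ne_one : ∀ i, rep i ≠ 1 := by
  obtain ⟨hA, hB1, hB2, hD1, hD2, hC⟩ := matrices_ne_one
  refine forall_seven ?_ ?_ ?_ ?_ ?_ ?_ ?_
  · rw [rep_zero]; exact ne_one_of_matrix hA
  · rw [rep_one]; exact ne_one_of_matrix hB1
  · rw [rep_two]; exact ne_one_of_matrix hB2
  · rw [rep_three]; exact ne_one_of_matrix hD1
  · rw [rep_four]; exact ne_one_of_matrix hD2
  · rw [rep_five]; exact ne_one_of_matrix hC
  · rw [rep_six, Ne, conj_eq_one_iff]; exact ne_one_of_matrix hC

/-- A generator of each class, in the commutator subgroup. -/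
noncomputable def repOmega (i : Fin 7) : ↥(Omega K3 ⇑Q7) := ⟨rep i, mem_omega_of_cube (rep_cube i)⟩

theorem eq_or_eq_inv {G : Type*} [Group G] {y z : G} (hy : y ^ 3 = 1) (hz : z ∈ Subgroup.zpowers y) (h1 : z ≠ 1) :
    z = y ∨ z = y⁻¹ := by
  obtain ⟨n, rfl⟩ := Subgroup.mem_zpowers_iff.1 hz
  have hy' : y ^ (3 : ℤ) = 1 := by exact_mod_cast hy
  have key : y ^ n = y ^ (n % 3) := by
    conv_lhs => rw [← Int.mul_ediv_add_emod n 3, zpow_add, zpow_mul, hy', one_zpow, one_mul]
  have h := Int.emod_lt_of_pos n (by decide : (0 : ℤ) < 3)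
  have h' := Int.emod_nonneg n (by decide : (3 : ℤ) ≠ 0)
  rw [key] at h1 ⊢
  rcases (by omega : n % 3 = 0 ∨ n % 3 = 1 ∨ n % 3 = 2) with e | e | e <;> rw [e] at h1 ⊢
  · exact absurd (zpow_zero y) h1
  · exact Or.inl (zpow_one y)
  · right
    rw [eq_inv_iff_mul_eq_one, ← zpow_add_one]
    exact hy'

theorem seven_classes {f : (I7 → K3) → K3} (hf : f = ⇑Q7) (hc : Subgroup.center ↥(Omega K3 f) = ⊥) :
    ∃ Y : Fin 7 → Subgroup (POmega K3 f), (∀ i, Nat.card (Y i) = 3) ∧
      (∀ i j, (∃ g : POmega K3 f, (Y i).map (MulAut.conj g).toMonoidHom = Y j) → i = j) ∧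
      (∀ X : Subgroup (POmega K3 f), Nat.card X = 3 →
        ∃ i, ∃ g : POmega K3 f, X.map (MulAut.conj g).toMonoidHom = Y i) := by
  subst hf
  let π : ↥(Omega K3 ⇑Q7) →* POmega K3 ⇑Q7 := QuotientGroup.mk' _
  have hπ : Function.Injective π := by
    rw [← MonoidHom.ker_eq_bot_iff, QuotientGroup.ker_mk', hc]
  have hsurj : Function.Surjective π := QuotientGroup.mk'_surjective _
  have cube : ∀ i, π (repOmega i) ^ 3 = 1 := fun i => by
    rw [← map_pow, ← map_one π]
    exact congrArg π (Subtype.ext (rep_cube i))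
  have ne1 : ∀ i, π (repOmega i) ≠ 1 := fun i h =>
    rep_ne_one i (congrArg Subtype.val (hπ (h.trans (map_one π).symm)))
  have : Fact (Nat.Prime 3) := ⟨Nat.prime_three⟩
  refine ⟨fun i => Subgroup.zpowers (π (repOmega i)), fun i => ?_, ?_, ?_⟩
  · rw [Nat.card_zpowers]
    exact orderOf_eq_prime (cube i) (ne1 i)
  · rintro i j ⟨g, hg⟩
    obtain ⟨k, rfl⟩ := hsurj g
    simp only [MonoidHom.map_zpowers] at hg
    have hmem := hg ▸ Subgroup.mem_zpowers ((MulAut.conj (π k)).toMonoidHom (π (repOmega i)))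
    have hne : (MulAut.conj (π k)).toMonoidHom (π (repOmega i)) ≠ 1 := fun h =>
      ne1 i ((MulAut.conj (π k)).injective (h.trans (map_one _).symm))
    have h := eq_or_eq_inv (cube j) hmem hne
    have e : (MulAut.conj (π k)).toMonoidHom (π (repOmega i)) = π (k * repOmega i * k⁻¹) := by
      simp [MulAut.conj_apply]
    rw [e, ← map_inv] at h
    exact distinct k.1 (sgn_of_mem k.2) (h.imp (fun h => congrArg Subtype.val (hπ h))
      (fun h => congrArg Subtype.val (hπ h)))
  · intro X hX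
    obtain ⟨⟨x, hxX⟩, hx1⟩ : ∃ x : X, x ≠ 1 := by
      by_contra h
      push Not at h
      have : Subsingleton X := ⟨fun a b => (h a).trans (h b).symm⟩
      rw [Nat.card_of_subsingleton (1 : X)] at hX
      omega
    have hx : orderOf x = 3 := by
      have hd := Subgroup.orderOf_dvd_natCard X hxX
      rw [hX] at hd
      refine (Nat.prime_three.eq_one_or_self_of_dvd _ hd).resolve_left fun h => hx1 ?_
      exact Subtype.ext (orderOf_eq_one_iff.1 h)
    have : Finite X := Nat.finite_of_card_ne_zero (by omega)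
    have hXx : X = Subgroup.zpowers x :=
      (Subgroup.eq_of_le_of_card_ge (Subgroup.zpowers_le.2 hxX) (by rw [Nat.card_zpowers, hx, hX])).symm
    obtain ⟨a, rfl⟩ := hsurj x
    have ha3 : (a.1 : O7) ^ 3 = 1 := by
      have h3 := pow_orderOf_eq_one (π a)
      rw [hx] at h3
      have : a ^ 3 = 1 := hπ (by rw [map_pow, map_one]; exact h3)
      exact congrArg Subtype.val this
    have ha1 : (a.1 : O7) ≠ 1 := fun h => by
      rw [show a = 1 from Subtype.ext h, map_one, orderOf_one] at hx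
      omega
    obtain ⟨i, k, hk, hki⟩ := exhaust ha3 ha1
    obtain ⟨k', hk', h'⟩ := exists_omega_conj hk hki
    refine ⟨i, π ⟨k', hk'⟩, ?_⟩
    rw [hXx, MonoidHom.map_zpowers]
    congr 1
    rw [MulEquiv.coe_toMonoidHom, MulAut.conj_apply, ← map_mul, ← map_inv, ← map_mul]
    exact congrArg π (Subtype.ext h')

theorem q7_fun : quadFormOdd 3 K3 = ⇑Q7 := funext fun v => (Forms.quadOdd_apply v).symm

end Cfsg.Agent.UnipSeven
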